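import Cfsg.Agent.Lib.Fischer.Solvable.Quadrangle

/-!
The parameters of the geometry of lines: lines have three or five members and there are three or
nine lines on a member.
-/

set_option autoImplicit false

namespace Cfsg.Agent.Fischer.Solv

open Cfsg

variable {G : Type*} [Group G] {D : Set G}

namespace GQ

variable [Finite G] (hQ : GQ D)
include hQ

theorem two_le_prj {x w : G} (hx : x ∈ D) (hw : w ∈ nbr D x) : 3 ≤ (prj D x w).ncard := by
  obtain ⟨j, hj⟩ := hQ.ncard_prj_eq_pow hx hw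
  obtain _ | j := j
  · exfalso
    obtain ⟨a, hpa⟩ := Set.ncard_eq_one.1 hj
    have ha : a ∈ prj D x w := hpa ▸ rfl
    obtain ⟨b, hb, hba, hab⟩ := hQ.thick x hx a ha.1
    have hconn := perp_connected hQ.toTClass hQ.sol hx ha.1 hb
    rcases Relation.ReflTransGen.cases_head hconn with h | ⟨c, hac, -⟩
    · exact hba h.symm
    · obtain ⟨e, he, hce⟩ := hQ.exists_proj hx hw hac.2.1
      rw [hpa, Set.mem_singleton_iff] at he
      exact hac.2.2 (he ▸ hce.symm)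
  · rw [hj, pow_succ]
    have := Nat.one_le_pow j 3 (by norm_num)
    omega

omit [Finite G] in
theorem star_mem_blk {x a b v : G} (hx : x ∈ D) (ha : a ∈ perp D x) (hb : b ∈ perp D x)
    (hab : ¬Commute a b) {a' : G} (ha' : a' ∈ blk D x a) (hv : v ∈ blk D x b) :
    a' * v * a' ∈ blk D x (a * b * a) := by
  refine ⟨hQ.star_mem ha'.1 hv.1, hQ.trans_commute hx (hQ.star_mem ha hb)
    (hQ.star_mem ha'.1 hb) (hQ.star_mem ha'.1 hv.1)
    (hQ.star_congr hx ha ha'.1 hb ha'.2.symm hab).symm ?_⟩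
  exact (commute_invol_conj (hQ.sq a' ha'.1.1)).2 hv.2

/-- A block does not have three members. -/
theorem blk_ne_three {x w a b : G} (hx : x ∈ D) (hw : w ∈ nbr D x) (ha : a ∈ prj D x w)
    (hb : b ∈ prj D x w) (hne : a ≠ b) : (blk D x b).ncard ≠ 3 := by
  intro h3
  have hab : ¬Commute a b := fun h => hne (hQ.prj_width_one hx hw ha hb h)
  obtain ⟨a', ha', hne', haa⟩ := hQ.thick x hx a ha.1
  set σ : G → G := fun v => a * (a' * v * a') * a with hσ
  have ia := invol_cancel (hQ.sq a ha.1.1)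
  have ia' := invol_cancel (hQ.sq a' ha'.1)
  have hmem : ∀ v ∈ blk D x b, σ v ∈ blk D x b := by
    intro v hv
    have h1 := hQ.star_mem_blk hx ha.1 hb.1 hab ⟨ha', haa⟩ hv
    refine ⟨hQ.star_mem ha.1 h1.1, ?_⟩
    have h2 := (commute_invol_conj (hQ.sq a ha.1.1)).2 h1.2
    rwa [invol_conj_invol (hQ.sq a ha.1.1)] at h2
  have hinv : ∀ v, σ (σ v) = v := fun v => by
    have e : a' * a = a * a' := haa.symm.eq
    calc σ (σ v) = a * (a' * a) * a' * v * a' * (a * a') * a := by simp only [hσ, mul_assoc]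
      _ = a * (a * a') * a' * v * a' * (a' * a) * a := by rw [e]
      _ = v := by simp only [mul_assoc, ia, ia', hQ.sq a ha.1.1, hQ.sq a' ha'.1, mul_one, one_mul]
  have hfix : ∀ v ∈ blk D x b, σ v ≠ v := by
    intro v hv h
    have hva : ¬Commute a v := fun h => hab (hQ.trans_commute hx ha.1 hv.1 hb.1 h hv.2.symm)
    have hva' : ¬Commute a' v := fun h => hva (hQ.trans_commute hx ha.1 ha' hv.1 haa h)
    have h1 : a' * v * a' = a * v * a := by
      conv_rhs => rw [← h]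
      exact (invol_conj_invol (hQ.sq a ha.1.1) _).symm
    rw [hQ.ts.braid ha'.1 hv.1.1 hva', hQ.ts.braid ha.1.1 hv.1.1 hva] at h1
    exact hne' (invol_conj_inj (hQ.sq v hv.1.1) h1)
  obtain ⟨v₀, v₁, v₂, h01, h02, h12, he⟩ := Set.ncard_eq_three.1 h3
  have hm : ∀ v ∈ blk D x b, σ v = v₀ ∨ σ v = v₁ ∨ σ v = v₂ := by
    intro v hv
    have := hmem v hv
    rwa [he, Set.mem_insert_iff, Set.mem_insert_iff, Set.mem_singleton_iff] at this
  have m0 : v₀ ∈ blk D x b := by rw [he]; simp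
  have m1 : v₁ ∈ blk D x b := by rw [he]; simp
  have m2 : v₂ ∈ blk D x b := by rw [he]; simp
  rcases hm v₀ m0 with h | h | h
  · exact hfix v₀ m0 h
  · have h' : σ v₁ = v₀ := by rw [← h, hinv]
    rcases hm v₂ m2 with k | k | k
    · exact h12 (by rw [← hinv v₂, k, h])
    · exact h02 (by rw [← hinv v₂, k, h'])
    · exact hfix v₂ m2 k
  · have h' : σ v₂ = v₀ := by rw [← h, hinv]
    rcases hm v₁ m1 with k | k | k
    · exact h12 (by rw [← hinv v₁, k, h])
    · exact hfix v₁ m1 k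
    · exact h01 (by rw [← hinv v₁, k, h'])

/-- Lines have at most five members. -/
theorem blk_le_four {x w a₀ b₀ : G} (hx : x ∈ D) (hw : w ∈ nbr D x) (ha₀ : a₀ ∈ prj D x w)
    (hb₀ : b₀ ∈ prj D x w) (hne : a₀ ≠ b₀) : (blk D x a₀).ncard ≤ 4 := by
  by_contra hgt
  push Not at hgt
  have hT := hQ.ts
  have hab : ¬Commute a₀ b₀ := fun h => hne (hQ.prj_width_one hx hw ha₀ hb₀ h)
  set c₀ := a₀ * b₀ * a₀ with hc₀def
  have hc₀ : c₀ ∈ prj D x w := hQ.conj_prj ha₀ hb₀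
  have hA : ∀ y ∈ blk D x a₀, ∀ v ∈ blk D x b₀, ¬Commute y v := fun y hy v hv h =>
    hab (hQ.trans_commute hx ha₀.1 hv.1 hb₀.1
      (hQ.trans_commute hx ha₀.1 hy.1 hv.1 hy.2 h) hv.2.symm)
  have hmB : ∀ v ∈ blk D x b₀, ¬Commute v c₀ := fun v hv h =>
    (hT.not_commute_third ha₀.1.1 hb₀.1.1 hab).2
      (hQ.trans_commute hx hc₀.1 hv.1 hb₀.1 h.symm hv.2.symm)
  -- f_v for v in a class
  let f : G → G := fun v => tau x v w
  have hf : ∀ v ∈ perp D x, f v ∈ nbr D x := fun v hv => hQ.tau_mem hx hw hv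
  have hfproj : ∀ v ∈ perp D x, ∀ o, o ∈ prj D x w → Commute (v * o * v) (f v) := by
    intro v hv o ho
    show Commute (v * o * v) (x * (v * w * v) * x)
    have h1 : Commute (v * o * v) x := (hv.2.2.symm.mul_left ho.1.2.2.symm).mul_left hv.2.2.symm
    have h2 : Commute (v * o * v) (v * w * v) := (commute_invol_conj (hQ.sq v hv.1)).2 ho.2
    exact (h1.mul_right h2).mul_right h1
  obtain ⟨z, ⟨hz, hbz⟩, hzb⟩ : ∃ z ∈ blk D x b₀, z ≠ b₀ := by
    obtain ⟨e, he, hne, hc⟩ := hQ.thick x hx b₀ hb₀.1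
    exact ⟨e, ⟨he, hc⟩, hne⟩
  have hzc : ¬Commute z c₀ := hmB z ⟨hz, hbz⟩
  have hca : ∀ v ∈ blk D x b₀, Commute a₀ (v * c₀ * v) := by
    intro v hv
    have h2 := hQ.star_congr hx hb₀.1 hv.1 hc₀.1 hv.2.symm
      (hmB b₀ ⟨hb₀.1, Commute.refl b₀⟩)
    rw [hc₀def, hT.braid ha₀.1.1 hb₀.1.1 hab, invol_conj_invol (hQ.sq b₀ hb₀.1.1)] at h2
    rw [hc₀def, hT.braid ha₀.1.1 hb₀.1.1 hab]
    exact h2.symm
  set az := z * c₀ * z with hazdef
  have hazA : az ∈ perp D x := hQ.star_mem hz hc₀.1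
  obtain ⟨y, hy, hy'⟩ : ∃ y ∈ blk D x a₀, y ∉ ({a₀, az} : Set G) := by
    refine Set.exists_mem_notMem_of_ncard_lt_ncard ?_ (Set.toFinite _)
    have := Set.ncard_insert_le a₀ ({az} : Set G)
    rw [Set.ncard_singleton] at this
    omega
  simp only [Set.mem_insert_iff, Set.mem_singleton_iff, not_or] at hy'
  set B := {v : G | v ∈ blk D x a₀ ∧ v * z * v = y * b₀ * y} with hB
  have hB1 : B.ncard ≤ 1 := by
    rw [Set.ncard_le_one (Set.toFinite _)]
    rintro p ⟨hp, hpe⟩ r ⟨hr, hre⟩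
    have := hpe.trans hre.symm
    rw [hT.braid hp.1.1 hz.1 (hA p hp z ⟨hz, hbz⟩),
      hT.braid hr.1.1 hz.1 (hA r hr z ⟨hz, hbz⟩)] at this
    exact invol_conj_inj (hQ.sq z hz.1) this
  obtain ⟨y', hyy, hyn⟩ : ∃ y' ∈ blk D x a₀, y' ∉ ({a₀, az, y} : Set G) ∪ B := by
    refine Set.exists_mem_notMem_of_ncard_lt_ncard ?_ (Set.toFinite _)
    have h1 := Set.ncard_union_le ({a₀, az, y} : Set G) B
    have h2 := Set.ncard_insert_le a₀ ({az, y} : Set G)
    have h3 := Set.ncard_insert_le az ({y} : Set G)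
    rw [Set.ncard_singleton] at h3
    omega
  simp only [Set.mem_union, Set.mem_insert_iff, Set.mem_singleton_iff, not_or, hB,
    Set.mem_ofPred_eq, not_and] at hyn
  obtain ⟨⟨hy'a, hy'az, hy'y⟩, hy'B⟩ := hyn
  set c := y' * z * y' with hcdef
  set z' := y * c * y with hz'def
  have hcA : c ∈ blk D x c₀ := hQ.star_mem_blk hx ha₀.1 hb₀.1 hab hyy ⟨hz, hbz⟩
  have hz'A : z' ∈ blk D x b₀ := by
    have h := hQ.star_mem_blk hx ha₀.1 hc₀.1
      (fun h => (hT.not_commute_third ha₀.1.1 hb₀.1.1 hab).1 h.symm) hy hcA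
    rwa [show a₀ * c₀ * a₀ = b₀ from invol_conj_invol (hQ.sq a₀ ha₀.1.1) b₀] at h
  have hyz' : y * z' * y = c := invol_conj_invol (hQ.sq y hy.1.1) c
  have hnyz : ¬Commute y z := hA y hy z ⟨hz, hbz⟩
  have hny'z : ¬Commute y' z := hA y' hyy z ⟨hz, hbz⟩
  have hnyz' : ¬Commute y z' := hA y hy z' hz'A
  have hzz' : z ≠ z' := by
    intro e
    rw [← e, hcdef, hT.braid hy.1.1 hz.1 hnyz, hT.braid hyy.1.1 hz.1 hny'z] at hyz'
    exact hy'y (invol_conj_inj (hQ.sq z hz.1) hyz').symm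
  have hz'b : z' ≠ b₀ := fun e => hy'B hyy (by rw [← hyz', e])
  -- the three points
  let P : G → G → G := fun u v => tau x u (f v)
  have hP : ∀ u v, u ∈ perp D x → v ∈ perp D x → P u v = u * (v * w * v) * u := by
    intro u v hu hv
    show x * (u * (x * (v * w * v) * x) * u) * x = _
    have e1 : x * u = u * x := hu.2.2.eq
    calc x * (u * (x * (v * w * v) * x) * u) * x = (x * u) * x * (v * w * v) * x * (u * x) := by
          simp only [mul_assoc]
      _ = (u * x) * x * (v * w * v) * x * (x * u) := by rw [e1]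
      _ = u * (v * w * v) * u := by
          simp only [mul_assoc, invol_cancel (hQ.sq x hx)]
  have hnot : ∀ u v, u ∈ blk D x a₀ → v ∈ blk D x b₀ → u ≠ v * c₀ * v → ¬Commute u (f v) := by
    intro u v hu hv hne h
    exact hne (hQ.proj_unique hx (hf v hv.1) hu.1 (hQ.star_mem hv.1 hc₀.1)
      (hQ.trans_commute hx hu.1 ha₀.1 (hQ.star_mem hv.1 hc₀.1) hu.2.symm (hca v hv))
      h (hfproj v hv.1 c₀ hc₀))
  have hPn : ∀ u v, u ∈ perp D x → v ∈ perp D x → P u v ∈ nbr D x :=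
    fun u v hu hv => hQ.tau_mem hx (hf v hv) hu
  have hzazy : ¬Commute y (f z) := hnot y z hy ⟨hz, hbz⟩ hy'.2
  have hzazy' : ¬Commute y' (f z) := hnot y' z hyy ⟨hz, hbz⟩ hy'az
  have hyaz' : y ≠ z' * c₀ * z' := by
    intro e
    have h2 : c = c₀ := by
      rw [← hyz', hT.braid hy.1.1 hz'A.1.1 hnyz', e, invol_conj_invol (hQ.sq z' hz'A.1.1)]
    refine hy'az ?_
    rw [hazdef, ← h2, hcdef, hT.braid hyy.1.1 hz.1 hny'z, invol_conj_invol (hQ.sq z hz.1)]
  have hzazy'' : ¬Commute y (f z') := hnot y z' hy hz'A hyaz'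
  set p₁ := P y z
  set p₂ := P y' z
  set p₃ := P y z'
  -- common points
  have haz1 : ∀ u ∈ blk D x a₀, ∀ v ∈ blk D x b₀, Commute (v * c₀ * v) (P u v) := by
    intro u hu v hv
    have h1 : v * c₀ * v ∈ perp D x := hQ.star_mem hv.1 hc₀.1
    exact commute_tau h1.2.2.symm (hQ.trans_commute hx h1 ha₀.1 hu.1 (hca v hv).symm hu.2)
      (hfproj v hv.1 c₀ hc₀)
  have hazf : f z ∈ perp D az := by
    refine ⟨(hf z hz).1, fun e => (hf z hz).2 ?_, hfproj z hz c₀ hc₀⟩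
    rw [e]; exact hazA.2.2
  have h12 : Commute p₁ p₂ := by
    refine hQ.clique az hazA.1 (f z) hazf p₁ (hPn y z hy.1 hz).1 p₂ (hPn y' z hyy.1 hz).1
      (haz1 y hy z ⟨hz, hbz⟩).symm (hQ.tau_commute hx (hf z hz) hy.1 hzazy)
      (haz1 y' hyy z ⟨hz, hbz⟩).symm (hQ.tau_commute hx (hf z hz) hyy.1 hzazy')
  -- the second description: as moves of f y
  have hkey : ∀ v ∈ blk D x b₀, ¬Commute y v → P y v = P (y * v * y) y := by
    intro v hv hn
    have hm : y * v * y ∈ perp D x := hQ.star_mem hy.1 hv.1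
    rw [hP y v hy.1 hv.1, hP _ _ hm hy.1]
    simp only [mul_assoc, invol_cancel (hQ.sq y hy.1.1)]
  have hcy : ∀ v ∈ blk D x b₀, v ≠ b₀ → ¬Commute (y * v * y) (f y) := by
    intro v hv hvb h
    have hm : y * v * y ∈ perp D x := hQ.star_mem hy.1 hv.1
    have h2 : Commute (y * v * y) (y * b₀ * y) := (commute_invol_conj (hQ.sq y hy.1.1)).2 hv.2.symm
    exact hvb (invol_conj_inj (hQ.sq y hy.1.1) (hQ.proj_unique hx (hf y hy.1) hm
      (hQ.star_mem hy.1 hb₀.1) h2 h (hfproj y hy.1 b₀ hb₀)))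
  have hyb : y * b₀ * y ∈ perp D x := hQ.star_mem hy.1 hb₀.1
  have hyb1 : ∀ v ∈ blk D x b₀, ¬Commute y v → Commute (y * b₀ * y) (P y v) := by
    intro v hv hn
    rw [hkey v hv hn]
    exact commute_tau hyb.2.2.symm ((commute_invol_conj (hQ.sq y hy.1.1)).2 hv.2)
      (hfproj y hy.1 b₀ hb₀)
  have h13 : Commute p₁ p₃ := by
    refine hQ.clique (y * b₀ * y) hyb.1 (f y) ?_ p₁ (hPn y z hy.1 hz).1 p₃
      (hPn y z' hy.1 hz'A.1).1 (hyb1 z ⟨hz, hbz⟩ hnyz).symm ?_ (hyb1 z' hz'A hnyz').symm ?_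
    · refine ⟨(hf y hy.1).1, fun e => (hf y hy.1).2 ?_, hfproj y hy.1 b₀ hb₀⟩
      rw [e]; exact hyb.2.2
    · rw [show p₁ = P (y * z * y) y from hkey z ⟨hz, hbz⟩ hnyz]
      exact hQ.tau_commute hx (hf y hy.1) (hQ.star_mem hy.1 hz) (hcy z ⟨hz, hbz⟩ hzb)
    · rw [show p₃ = P (y * z' * y) y from hkey z' hz'A hnyz']
      exact hQ.tau_commute hx (hf y hy.1) (hQ.star_mem hy.1 hz'A.1) (hcy z' hz'A hz'b)
  -- the third description: as moves of f c
  have hkey2 : ∀ u v, u ∈ blk D x a₀ → v ∈ blk D x b₀ → ¬Commute u v → u * v * u = c →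
      P u v = P v c := by
    intro u v hu hv hn he
    rw [hP u v hu.1 hv.1, hP v c hv.1 hcA.1, ← he, hT.braid hu.1.1 hv.1.1 hn]
    simp only [mul_assoc, invol_cancel (hQ.sq v hv.1.1), hQ.sq v hv.1.1, mul_one]
  set bc := c * a₀ * c with hbcdef
  have hbc : bc ∈ perp D x := hQ.star_mem hcA.1 ha₀.1
  have hbcb : Commute bc b₀ := by
    have h1 := hQ.star_congr hx hc₀.1 hcA.1 ha₀.1 hcA.2.symm
      (hT.not_commute_third ha₀.1.1 hb₀.1.1 hab).1
    rwa [hT.braid hc₀.1.1 ha₀.1.1 (hT.not_commute_third ha₀.1.1 hb₀.1.1 hab).1,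
      show a₀ * c₀ * a₀ = b₀ from invol_conj_invol (hQ.sq a₀ ha₀.1.1) b₀, ← hbcdef] at h1
  have hcv : ∀ v ∈ blk D x b₀, v ≠ bc → ¬Commute v (f c) := by
    intro v hv hne h
    exact hne (hQ.proj_unique hx (hf c hcA.1) hv.1 hbc
      (hQ.trans_commute hx hv.1 hb₀.1 hbc hv.2.symm hbcb.symm) h (hfproj c hcA.1 a₀ ha₀))
  have hbcv : ∀ u v, u ∈ blk D x a₀ → v ∈ blk D x b₀ → ¬Commute u v → u * v * u = c →
      u ≠ a₀ → v ≠ bc := by
    intro u v hu hv hn he hua e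
    refine hua ?_
    have hcu : ¬Commute c u := fun k => by
      rw [← he] at k
      exact (hT.not_commute_third hu.1.1 hv.1.1 hn).1 k
    have h1 : c * u * c = v := by
      rw [hT.braid hcA.1.1 hu.1.1 hcu, ← he, invol_conj_invol (hQ.sq u hu.1.1)]
    rw [e, hbcdef] at h1
    exact invol_conj_inj (hQ.sq c hcA.1.1) h1
  have hbc1 : ∀ u v, u ∈ blk D x a₀ → v ∈ blk D x b₀ → ¬Commute u v → u * v * u = c →
      Commute bc (P u v) := by
    intro u v hu hv hn he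
    rw [hkey2 u v hu hv hn he]
    exact commute_tau hbc.2.2.symm (hQ.trans_commute hx hbc hb₀.1 hv.1 hbcb hv.2)
      (hfproj c hcA.1 a₀ ha₀)
  have h23 : Commute p₂ p₃ := by
    refine hQ.clique bc hbc.1 (f c) ?_ p₂ (hPn y' z hyy.1 hz).1 p₃
      (hPn y z' hy.1 hz'A.1).1 (hbc1 y' z hyy ⟨hz, hbz⟩ hny'z rfl).symm ?_
      (hbc1 y z' hy hz'A hnyz' hyz').symm ?_
    · refine ⟨(hf c hcA.1).1, fun e => (hf c hcA.1).2 ?_, hfproj c hcA.1 a₀ ha₀⟩
      rw [e]; exact hbc.2.2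
    · rw [show p₂ = P z c from hkey2 y' z hyy ⟨hz, hbz⟩ hny'z rfl]
      exact hQ.tau_commute hx (hf c hcA.1) hz
        (hcv z ⟨hz, hbz⟩ (hbcv y' z hyy ⟨hz, hbz⟩ hny'z rfl hy'a))
    · rw [show p₃ = P z' c from hkey2 y z' hy hz'A hnyz' hyz']
      exact hQ.tau_commute hx (hf c hcA.1) hz'A.1
        (hcv z' hz'A (hbcv y z' hy hz'A hnyz' hyz' hy'.1))
  -- no triangle
  have hne12 : p₂ ≠ p₁ := fun e =>
    hy'y (hQ.tau_injective hx (hf z hz) hyy.1 hy.1 hzazy' hzazy e)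
  have haz3 : Commute az p₃ := hQ.clique p₁ (hPn y z hy.1 hz).1 p₂
    ⟨(hPn y' z hyy.1 hz).1, hne12, h12⟩ az hazA.1 p₃ (hPn y z' hy.1 hz'A.1).1
    (haz1 y hy z ⟨hz, hbz⟩) (haz1 y' hyy z ⟨hz, hbz⟩) h13.symm h23.symm
  have heq : az = z' * c₀ * z' := hQ.proj_unique hx (hPn y z' hy.1 hz'A.1) hazA
    (hQ.star_mem hz'A.1 hc₀.1)
    (hQ.trans_commute hx hazA ha₀.1 (hQ.star_mem hz'A.1 hc₀.1) (hca z ⟨hz, hbz⟩).symm
      (hca z' hz'A))
    haz3 (haz1 y hy z' hz'A)
  rw [hazdef, hT.braid hz.1 hc₀.1.1 hzc, hT.braid hz'A.1.1 hc₀.1.1 (hmB z' hz'A)] at heq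
  exact hzz' (invol_conj_inj (hQ.sq c₀ hc₀.1.1) heq)

/-- Higman's inequality. -/
theorem higman {x w : G} {s n : ℕ} (hx : x ∈ D) (hw : w ∈ nbr D x)
    (hs : ∀ u ∈ D, ∀ a ∈ perp D u, (blk D u a).ncard = s)
    (hn : ∀ u ∈ D, ∀ v ∈ nbr D u, (prj D u v).ncard = n)
    (hA : ∀ u ∈ D, (perp D u).ncard = n * s) (hN : (nbr D x).ncard = s * s * (n - 1)) :
    n * n * ((n : ℤ) - 2) * (n - 2) * (s * s) ≤
      ((s * s * (n - 1) : ℤ) - s * n - 1 + n) * (n * (n - 2) * (s + n - 1)) := by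
  classical
  set S := (Set.toFinite (prj D x w)).toFinset with hS
  set Z := (Set.toFinite (nbr D x ∩ nbr D w)).toFinset with hZ
  set c : G → ℤ := fun z => ((S.filter fun a => Commute a z).card : ℤ) with hc
  have hScard : S.card = n := by rw [hS, ← Set.ncard_eq_toFinset_card, hn x hx w hw]
  have memS : ∀ a, a ∈ S ↔ a ∈ perp D x ∧ Commute a w := fun a => by
    rw [hS, Set.Finite.mem_toFinset]; exact Iff.rfl
  have memZ : ∀ z, z ∈ Z ↔ z ∈ D ∧ ¬Commute x z ∧ ¬Commute w z := fun z => by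
    rw [hZ, Set.Finite.mem_toFinset]
    exact ⟨fun h => ⟨h.1.1, h.1.2, h.2.2⟩, fun h => ⟨⟨h.1, h.2.1⟩, h.1, h.2.2⟩⟩
  have hperpW : ∀ a ∈ S, a ∈ perp D w := fun a ha =>
    ⟨((memS a).1 ha).1.1, fun e => hw.2 (e ▸ ((memS a).1 ha).1.2.2), ((memS a).1 ha).2.symm⟩
  have hZcard : (Z.card : ℤ) = (s * s * (n - 1) : ℤ) - s * n - 1 + n := by
    have hn1 : 1 ≤ n := by
      rw [← hn x hx w hw]
      exact (Set.ncard_pos (Set.toFinite _)).2 (hQ.prj_nonempty hx hw)
    have h1 : (insert w (perp D w \ (insert x (prj D x w)))) ∪ (nbr D x ∩ nbr D w) = nbr D x := by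
      ext z
      constructor
      · rintro ((rfl | ⟨hz, hn'⟩) | h)
        · exact hw
        · refine ⟨hz.1, fun h => hn' ?_⟩
          by_cases hzx : z = x
          · exact Set.mem_insert_iff.2 (Or.inl hzx)
          · exact Set.mem_insert_iff.2 (Or.inr ⟨⟨hz.1, hzx, h⟩, hz.2.2.symm⟩)
        · exact h.1
      · intro hz
        by_cases hzw : z = w
        · exact Or.inl (Or.inl hzw)
        by_cases hc' : Commute w z
        · refine Or.inl (Or.inr ⟨⟨hz.1, hzw, hc'⟩, fun h => hz.2 ?_⟩)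
          rcases h with rfl | h
          · exact Commute.refl z
          · exact h.1.2.2
        · exact Or.inr ⟨hz, hz.1, hc'⟩
    have hd : Disjoint (insert w (perp D w \ (insert x (prj D x w)))) (nbr D x ∩ nbr D w) := by
      rw [Set.disjoint_left]
      rintro z (rfl | ⟨hz, -⟩) ⟨-, hz2⟩
      · exact hz2.2 (Commute.refl z)
      · exact hz2.2 hz.2.2
    have hsub : prj D x w ⊆ perp D w := fun a ha =>
      ⟨ha.1.1, fun e => hw.2 (e ▸ ha.1.2.2), ha.2.symm⟩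
    have hxn : x ∉ perp D w := fun h => hw.2 h.2.2.symm
    have hde : perp D w \ (insert x (prj D x w)) = perp D w \ prj D x w := by
      ext z
      simp only [Set.mem_sdiff, Set.mem_insert_iff, not_or]
      exact ⟨fun h => ⟨h.1, h.2.2⟩, fun h => ⟨h.1, fun e => hxn (e ▸ h.1), h.2⟩⟩
    have h2 := congrArg Set.ncard h1
    rw [Set.ncard_union_eq hd (Set.toFinite _) (Set.toFinite _),
      Set.ncard_insert_of_notMem (fun h => h.1.2.1 rfl) (Set.toFinite _), hde, hN] at h2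
    have h3 := Set.ncard_sdiff_add_ncard_of_subset hsub (Set.toFinite _)
    rw [hA w hw.1, hn x hx w hw] at h3
    have h4 : Z.card = (nbr D x ∩ nbr D w).ncard := by rw [hZ, ← Set.ncard_eq_toFinset_card]
    zify [hn1] at h2 h3 h4
    linarith
  have hZa : ∀ a ∈ S, ((Z.filter fun z => Commute a z).card : ℤ) = s * (n - 2) := by
    intro a ha
    obtain ⟨haA, haw⟩ := (memS a).1 ha
    have hsub : (both D x a \ {a}) ∪ (both D w a \ {a}) ⊆ perp D a := by
      rintro e (⟨⟨he, -, hea⟩, hne⟩ | ⟨⟨he, -, hea⟩, hne⟩) <;> exact ⟨he, hne, hea.symm⟩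
    have hd : Disjoint (both D x a \ {a}) (both D w a \ {a}) := by
      rw [Set.disjoint_left]
      rintro e ⟨⟨he, hex, hea⟩, hne⟩ ⟨⟨-, hew, -⟩, -⟩
      exact hw.2 (hQ.clique a haA.1 e ⟨he, hne, hea.symm⟩ x hx w hw.1 haA.2.2 hex.symm haw.symm
        hew.symm)
    have hset : (↑(Z.filter fun z => Commute a z) : Set G) =
        perp D a \ ((both D x a \ {a}) ∪ (both D w a \ {a})) := by
      ext z
      simp only [Finset.coe_filter, memZ, Set.mem_ofPred_eq, Set.mem_sdiff, Set.mem_union,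
        Set.mem_singleton_iff]
      constructor
      · rintro ⟨⟨hz, hzx, hzw⟩, haz⟩
        refine ⟨⟨hz, fun e => hzx (e ▸ haA.2.2), haz⟩, ?_⟩
        rintro (⟨⟨-, h, -⟩, -⟩ | ⟨⟨-, h, -⟩, -⟩)
        · exact hzx h.symm
        · exact hzw h.symm
      · rintro ⟨⟨hz, hne, haz⟩, hn'⟩
        exact ⟨⟨hz, fun h => hn' (Or.inl ⟨⟨hz, h.symm, haz.symm⟩, hne⟩),
          fun h => hn' (Or.inr ⟨⟨hz, h.symm, haz.symm⟩, hne⟩)⟩, haz⟩
    have hb : ∀ u ∈ D, a ∈ perp D u → (both D u a \ {a}).ncard = s := fun u hu hau => by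
      rw [Set.ncard_sdiff_singleton_of_mem
        (show a ∈ both D u a from ⟨hau.1, hau.2.2.symm, Commute.refl a⟩), hQ.ncard_both hu hau,
        hs u hu a hau]
      omega
    have h1 := Set.ncard_sdiff_add_ncard_of_subset hsub (Set.toFinite _)
    rw [Set.ncard_union_eq hd (Set.toFinite _) (Set.toFinite _), hb x hx haA,
      hb w hw.1 (hperpW a ha), hA a haA.1, ← hset, Set.ncard_coe_finset] at h1
    zify at h1
    linarith
  have hZab : ∀ a ∈ S, ∀ b ∈ S, a ≠ b →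
      ((Z.filter fun z => Commute a z ∧ Commute b z).card : ℤ) = n - 2 := by
    intro a ha b hb hab
    obtain ⟨haA, haw⟩ := (memS a).1 ha
    obtain ⟨hbA, hbw⟩ := (memS b).1 hb
    have hnc : ¬Commute a b := fun h => hab (hQ.proj_unique hx hw haA hbA h haw hbw)
    have hsub : ({x, w} : Set G) ⊆ prj D a b := by
      rintro e (rfl | rfl)
      · exact ⟨⟨hx, fun e => haA.2.1 e.symm, haA.2.2.symm⟩, hbA.2.2⟩
      · exact ⟨⟨hw.1, fun e => (hperpW a ha).2.1 e.symm, haw⟩, hbw.symm⟩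
    have hset : (↑(Z.filter fun z => Commute a z ∧ Commute b z) : Set G) =
        prj D a b \ {x, w} := by
      ext z
      simp only [Finset.coe_filter, memZ, Set.mem_ofPred_eq, Set.mem_sdiff, Set.mem_insert_iff,
        Set.mem_singleton_iff, not_or]
      constructor
      · rintro ⟨⟨hz, hzx, hzw⟩, haz, hbz⟩
        exact ⟨⟨⟨hz, fun e => hnc (e ▸ hbz.symm), haz⟩, hbz.symm⟩,
          fun e => hzx (e ▸ Commute.refl x), fun e => hzw (e ▸ Commute.refl w)⟩
      · rintro ⟨⟨⟨hz, hza, haz⟩, hzb⟩, hzx, hzw⟩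
        refine ⟨⟨hz, fun h => hnc ?_, fun h => hnc ?_⟩, haz, hzb.symm⟩
        · exact hQ.clique x hx z ⟨hz, hzx, h⟩ a haA.1 b hbA.1 haA.2.2.symm haz hbA.2.2.symm
            hzb.symm
        · exact hQ.clique w hw.1 z ⟨hz, hzw, h⟩ a haA.1 b hbA.1 haw haz hbw hzb.symm
    have h1 := Set.ncard_sdiff_add_ncard_of_subset hsub (Set.toFinite _)
    rw [← hset, Set.ncard_coe_finset, Set.ncard_pair (show x ≠ w from fun e => hw.2 (by rw [e])),
      hn a haA.1 b ⟨hbA.1, hnc⟩] at h1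
    zify at h1
    linarith
  have hsum1 : ∑ z ∈ Z, c z = n * (s * (n - 2)) := by
    calc ∑ z ∈ Z, c z = ∑ z ∈ Z, ∑ a ∈ S, (if Commute a z then (1 : ℤ) else 0) := by
          refine Finset.sum_congr rfl fun z _ => ?_
          rw [Finset.sum_boole]
      _ = ∑ a ∈ S, ((Z.filter fun z => Commute a z).card : ℤ) := by
          rw [Finset.sum_comm]
          refine Finset.sum_congr rfl fun a _ => ?_
          rw [Finset.sum_boole]
      _ = n * (s * (n - 2)) := by rw [Finset.sum_congr rfl hZa, Finset.sum_const, hScard]; simp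
  have hsum2 : ∑ z ∈ Z, (c z) ^ 2 = n * ((s * (n - 2)) + (n - 1) * (n - 2)) := by
    calc ∑ z ∈ Z, (c z) ^ 2
        = ∑ z ∈ Z, ∑ a ∈ S, ∑ b ∈ S, (if Commute a z ∧ Commute b z then (1 : ℤ) else 0) := by
          refine Finset.sum_congr rfl fun z _ => ?_
          simp only [hc]
          rw [pow_two, ← Finset.sum_boole, Finset.sum_mul_sum]
          refine Finset.sum_congr rfl fun a _ => Finset.sum_congr rfl fun b _ => ?_
          split_ifs <;> simp_all
      _ = ∑ a ∈ S, ∑ b ∈ S, ((Z.filter fun z => Commute a z ∧ Commute b z).card : ℤ) := by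
          rw [Finset.sum_comm]
          refine Finset.sum_congr rfl fun a _ => ?_
          rw [Finset.sum_comm]
          refine Finset.sum_congr rfl fun b _ => ?_
          rw [Finset.sum_boole]
      _ = ∑ a ∈ S, ((s * (n - 2)) + (n - 1) * (n - 2) : ℤ) := by
          refine Finset.sum_congr rfl fun a ha => ?_
          rw [← Finset.add_sum_erase S _ ha]
          congr 1
          · simp only [and_self]; exact hZa a ha
          · rw [Finset.sum_congr rfl fun b hb => hZab a ha b (Finset.mem_of_mem_erase hb)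
              (Finset.ne_of_mem_erase hb).symm, Finset.sum_const, Finset.card_erase_of_mem ha,
              hScard, nsmul_eq_mul, Nat.cast_sub (by rw [← hScard]; exact Finset.card_pos.2 ⟨a, ha⟩)]
            simp
      _ = n * ((s * (n - 2)) + (n - 1) * (n - 2)) := by
          rw [Finset.sum_const, hScard]; simp
  have h := sq_sum_le_card_mul_sum_sq (s := Z) (f := c)
  rw [hsum1, hsum2, hZcard] at h
  linarith

/-- The parameters. -/
theorem params {x : G} (hx : x ∈ D) :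
    ∃ s n : ℕ, ((s = 2 ∧ n = 3) ∨ (s = 4 ∧ n = 3) ∨ (s = 4 ∧ n = 9)) ∧
      (∀ u ∈ D, ∀ a ∈ perp D u, (blk D u a).ncard = s) ∧
      (∀ u ∈ D, ∀ v ∈ nbr D u, (prj D u v).ncard = n) ∧
      (∀ u ∈ D, (perp D u).ncard = n * s) ∧
      (∀ u ∈ D, (nbr D u).ncard = s * s * (n - 1)) := by
  obtain ⟨a₀, ha₀⟩ := hQ.nonempty_perp x hx
  obtain ⟨w, hw, hxw⟩ := hQ.not_all_commute x hx
  set s := (blk D x a₀).ncard with hsdef
  have hs : ∀ u ∈ D, ∀ a ∈ perp D u, (blk D u a).ncard = s :=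
    fun u hu a ha => (hQ.ncard_blk hx ha₀ hu ha).symm
  set n := (prj D x w).ncard with hndef
  have hs0 : 2 ≤ s := hQ.two_le_blk hx ha₀
  have hpc := fun u v (hu : u ∈ D) (hv : v ∈ D) =>
    ncard_eq_of_equivariant hQ.toTClass (F := perp D)
      (fun g _ _ => conj_mem_perp hQ.toTClass g) hu hv
  have hA : ∀ u ∈ D, (perp D u).ncard = n * s := fun u hu =>
    (hpc u x hu hx).trans (hQ.ncard_perp (fun a ha => hs x hx a ha) hx ⟨hw, hxw⟩)
  have hn : ∀ u ∈ D, ∀ v ∈ nbr D u, (prj D u v).ncard = n := fun u hu v hv =>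
    Nat.eq_of_mul_eq_mul_right (by omega : 0 < s)
      ((hQ.ncard_perp (fun a ha => hs u hu a ha) hu hv).symm.trans (hA u hu))
  have hn3 : 3 ≤ n := hQ.two_le_prj hx ⟨hw, hxw⟩
  have hN : ∀ u ∈ D, (nbr D u).ncard = s * s * (n - 1) := fun u hu =>
    hQ.ncard_nbr (fun a ha => hs u hu a ha) hu (hn u hu) (hA u hu) (by omega)
  obtain ⟨a, b, ha, hb, hab⟩ := (Set.one_lt_ncard_iff (Set.toFinite _)).1
    (show 1 < (prj D x w).ncard by omega)
  have hs4 : s ≤ 4 := by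
    rw [← hs x hx a ha.1]; exact hQ.blk_le_four hx ⟨hw, hxw⟩ ha hb hab
  have hs3 : s ≠ 3 := by
    rw [← hs x hx b hb.1]; exact hQ.blk_ne_three hx ⟨hw, hxw⟩ ha hb hab
  obtain ⟨j, hj⟩ := hQ.ncard_prj_eq_pow hx ⟨hw, hxw⟩
  have hH := hQ.higman hx ⟨hw, hxw⟩ hs hn hA (hN x hx)
  have hs2 : s = 2 ∨ s = 4 := by omega
  have hnb : n ≤ s * s + 1 := by
    have h2 : (3 : ℤ) ≤ n := by exact_mod_cast hn3
    rcases hs2 with h | h <;> rw [h] at hH ⊢ <;> push_cast at hH
    · have h' : (n : ℤ) * (n - 2) * (n * (n - 2) * 4) ≤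
          n * (n - 2) * ((3 * n - 5) * (n + 1)) := by linarith
      have h'' := le_of_mul_le_mul_left h' (mul_pos (by linarith) (by linarith))
      have : (n : ℤ) ≤ 5 := by nlinarith
      omega
    · have h' : (n : ℤ) * (n - 2) * (n * (n - 2) * 16) ≤
          n * (n - 2) * ((13 * n - 17) * (n + 3)) := by linarith
      have h'' := le_of_mul_le_mul_left h' (mul_pos (by linarith) (by linarith))
      have : (n : ℤ) ≤ 17 := by nlinarith
      omega
  refine ⟨s, n, ?_, hs, hn, hA, hN⟩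
  have hj3 : n = 3 ∨ n = 9 := by
    rw [← hndef] at hj
    have h17 : n ≤ 17 := le_trans hnb (by rcases hs2 with h | h <;> rw [h] <;> norm_num)
    rcases j with _ | _ | _ | j
    · rw [pow_zero] at hj; omega
    · exact Or.inl (by rw [hj]; norm_num)
    · exact Or.inr (by rw [hj]; norm_num)
    · have : 27 ≤ 3 ^ (j + 3) := by
        rw [pow_add]; have := Nat.one_le_pow j 3 (by norm_num); omega
      omega
  rcases hs2 with h | h
  · rw [h] at hnb
    omega
  · omega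

end GQ

end Cfsg.Agent.Fischer.Solv
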