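import Cfsg.Agent.Lib.Fischer.Cores
import Cfsg.Agent.Lib.Fischer.Structure
import Cfsg.Agent.Lib.Fischer.Twins

/-!
Classes of 3-transpositions with solvable `⟨D_x⟩`, whose odd core is central: the members
commuting with two commuting members commute with each other, and the commuting graph is
connected.
-/

set_option autoImplicit false

namespace Cfsg.Agent.Fischer.Solv

open Cfsg Cfsg.Agent.Components

variable {G : Type*} [Group G] {D : Set G}

/-- The geometry of lines: two commuting members lie in a clique containing all members commuting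
with both, and this clique has a third member. -/
structure GQ (D : Set G) : Prop extends TClass D where
  sol : ∀ N : Subgroup G, N.Normal → Group.IsSolvable ↥N → N ≤ commutator G → N = ⊥
  conn : ∀ a ∈ D, ∀ v ∈ D, Relation.ReflTransGen (CAdj D) a v
  center : Subgroup.center G = ⊥
  clique : ∀ u ∈ D, ∀ v ∈ perp D u, ∀ e ∈ D, ∀ f ∈ D,
    Commute e u → Commute e v → Commute f u → Commute f v → Commute e f
  thick : ∀ u ∈ D, ∀ v ∈ perp D u, ∃ e ∈ perp D u, e ≠ v ∧ Commute v e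
  nonempty_perp : ∀ u ∈ D, (perp D u).Nonempty
  not_all_commute : ∀ u ∈ D, ∃ w ∈ D, ¬Commute u w

theorem conj_fix_of_mem_closure_perp {x : G} {g : G} (hg : g ∈ Subgroup.closure (perp D x)) :
    g * x * g⁻¹ = x := by
  have hle : Subgroup.closure (perp D x) ≤ Subgroup.centralizer {x} :=
    (Subgroup.closure_le _).2 fun y hy =>
      Subgroup.mem_centralizer_singleton_iff.2 hy.2.2.symm.eq
  rw [Subgroup.mem_centralizer_singleton_iff.1 (hle hg), mul_inv_cancel_right]

theorem not_isSolvable [Nontrivial G]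
    (hsol : ∀ N : Subgroup G, N.Normal → Group.IsSolvable ↥N → N = ⊥) :
    ¬Group.IsSolvable G := fun h => by
  have := h
  exact top_ne_bot (hsol ⊤ inferInstance inferInstance)

theorem layer_eq_bot_of_isSolvable [Group.IsSolvable G] [Finite G] : Cfsg.layer G = ⊥ := by
  refine layer_eq_bot_iff.2 ?_
  rintro ⟨K, hK⟩
  exact IsComponent.not_isSolvable hK inferInstance

/-- In a solvable group a generating class of 3-transpositions with two members has a non-central
`O_2` or `O_3`. -/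
theorem core_not_central [Finite G] [Group.IsSolvable G] (hD : TClass D)
    (h2' : ∃ a ∈ D, ∃ b ∈ D, a ≠ b) :
    ¬Cfsg.pCore 2 G ≤ Subgroup.center G ∨ ¬Cfsg.pCore 3 G ≤ Subgroup.center G := by
  by_contra h
  rw [not_or, not_not, not_not] at h
  exact layer_ne_bot hD h2' h.1 h.2 layer_eq_bot_of_isSolvable

/-- `perp D x` as a class of the group it generates. -/
theorem perp_tClass [Finite G] (hD : TClass D)
    (hsol : ∀ N : Subgroup G, N.Normal → Group.IsSolvable ↥N → N ≤ commutator G → N = ⊥)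
    {x : G} (hx : x ∈ D) (hne : (perp D x).Nonempty) :
    TClass (Subtype.val ⁻¹' perp D x : Set ↥(Subgroup.closure (perp D x))) := by
  refine ⟨⟨fun a ha => Subtype.ext (hD.sq _ ha.1), fun a ha h => hD.ne_one _ ha.1 (by simp [h]),
    fun a ha b hb => (hD.ord _ ha.1 _ hb.1).imp (fun h => Subtype.ext (by simpa using h))
      (fun h => Subtype.ext (by simpa using h)), fun g a ha => ?_⟩, fun a ha b hb => ?_,
    Subgroup.closure_closure_coe_preimage, ?_⟩
  · have := conj_mem_perp hD (g : G) (x := x) (w := (a : G)) ha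
    rwa [conj_fix_of_mem_closure_perp g.2] at this
  · obtain ⟨g, hg, h⟩ := perp_transitive hD hsol hx ha hb
    exact ⟨⟨g, hg⟩, Subtype.ext h⟩
  · obtain ⟨a, ha⟩ := hne
    exact ⟨⟨a, Subgroup.subset_closure ha⟩, ha⟩

/-- The number of members commuting with both ends of a commuting pair is constant. -/
theorem exists_pair_conj [Finite G] (hD : TClass D)
    (hsol : ∀ N : Subgroup G, N.Normal → Group.IsSolvable ↥N → N ≤ commutator G → N = ⊥)
    {x a u v : G} (hx : x ∈ D) (ha : a ∈ perp D x) (hu : u ∈ D) (hv : v ∈ perp D u) :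
    ∃ g : G, g * x * g⁻¹ = u ∧ g * a * g⁻¹ = v := by
  obtain ⟨g, rfl⟩ := hD.trans x hx u hu
  obtain ⟨k, hk, hk'⟩ := perp_transitive_centralizer hD hsol (hD.conj g x hx)
    (conj_mem_perp hD g ha) hv
  refine ⟨k * g, ?_, ?_⟩
  · rw [show k * g * x * (k * g)⁻¹ = k * (g * x * g⁻¹) * k⁻¹ by simp [mul_assoc], hk]
  · rw [show k * g * a * (k * g)⁻¹ = k * (g * a * g⁻¹) * k⁻¹ by simp [mul_assoc], hk']

/-- The members commuting with both. -/
def both (D : Set G) (u v : G) : Set G := {e | e ∈ D ∧ Commute e u ∧ Commute e v}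

theorem ncard_both_eq [Finite G] (hD : TClass D)
    (hsol : ∀ N : Subgroup G, N.Normal → Group.IsSolvable ↥N → N ≤ commutator G → N = ⊥)
    {x a u v : G} (hx : x ∈ D) (ha : a ∈ perp D x) (hu : u ∈ D) (hv : v ∈ perp D u) :
    (both D x a).ncard = (both D u v).ncard := by
  obtain ⟨g, rfl, rfl⟩ := exists_pair_conj hD hsol hx ha hu hv
  have hinj : Function.Injective fun e => g * e * g⁻¹ :=
    fun p q h => mul_left_cancel (mul_right_cancel h)
  rw [← Set.ncard_image_of_injective _ hinj]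
  congr 1
  ext e
  constructor
  · rintro ⟨d, ⟨hd, h1, h2⟩, rfl⟩
    exact ⟨hD.conj g d hd, h1.conj g, h2.conj g⟩
  · rintro ⟨he, h1, h2⟩
    refine ⟨g⁻¹ * e * g, ⟨by simpa using hD.conj g⁻¹ e he, ?_, ?_⟩, by simp [mul_assoc]⟩
    · simpa [mul_assoc] using h1.conj g⁻¹
    · simpa [mul_assoc] using h2.conj g⁻¹

/-- Two members of `perp D x` commuting with exactly the same members of it. -/
def Tw (D : Set G) (x a b : G) : Prop := ∀ e ∈ perp D x, Commute a e ↔ Commute b e

theorem tw_of_subset [Finite G] (hD : TClass D)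
    (hsol : ∀ N : Subgroup G, N.Normal → Group.IsSolvable ↥N → N ≤ commutator G → N = ⊥)
    {x a b : G} (hx : x ∈ D) (ha : a ∈ perp D x) (hb : b ∈ perp D x)
    (h : ∀ e ∈ perp D x, Commute a e → Commute b e) : Tw D x a b := by
  have hsub : both D x a ⊆ both D x b := by
    rintro e ⟨he, h1, h2⟩
    refine ⟨he, h1, ?_⟩
    by_cases hex : e = x
    · exact hex ▸ hb.2.2
    · exact (h e ⟨he, hex, h1.symm⟩ h2.symm).symm
  have heq := Set.eq_of_subset_of_ncard_le hsub (ncard_both_eq hD hsol hx hb hx ha).le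
    (Set.toFinite _)
  refine fun e he => ⟨h e he, fun hbe => ?_⟩
  have : e ∈ both D x b := ⟨he.1, he.2.2.symm, hbe.symm⟩
  rw [← heq] at this
  exact this.2.2.symm

section

variable [Finite G] (hD : TClass D)
  (hsol : ∀ N : Subgroup G, N.Normal → Group.IsSolvable ↥N → N ≤ commutator G → N = ⊥)
include hD hsol

theorem sameComm_iff_tw {x : G} {a b : ↥(Subgroup.closure (perp D x))} :
    sameComm (Subtype.val ⁻¹' perp D x) a = sameComm (Subtype.val ⁻¹' perp D x) b ↔
      Tw D x a b := by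
  have _ := hD; have _ := hsol
  rw [sameComm_eq_iff]
  constructor
  · intro h e he
    have := h ⟨e, Subgroup.subset_closure he⟩ he
    exact ⟨fun k => ((this.1 (Subtype.ext k.eq)).map (Subgroup.subtype _)),
      fun k => ((this.2 (Subtype.ext k.eq)).map (Subgroup.subtype _))⟩
  · intro h e he
    exact ⟨fun k => Subtype.ext ((h e he).1 (k.map (Subgroup.subtype _))).eq,
      fun k => Subtype.ext ((h e he).2 (k.map (Subgroup.subtype _))).eq⟩

/-- Twins exist: `O_2` of `⟨D_x⟩` is not central. -/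
theorem exists_tw {x : G} (hx : x ∈ D) (h2' : ∃ a ∈ perp D x, ∃ b ∈ perp D x, a ≠ b)
    (hs : Group.IsSolvable ↥(Subgroup.closure (perp D x)))
    (hO : Cfsg.oddCore ↥(Subgroup.closure (perp D x)) ≤ Subgroup.center _) :
    ∃ a ∈ perp D x, ∃ b ∈ perp D x, b ≠ a ∧ Tw D x a b := by
  obtain ⟨a, ha, b, hb, hab⟩ := h2'
  have hT := perp_tClass hD hsol hx ⟨a, ha⟩
  set T : Set ↥(Subgroup.closure (perp D x)) := Subtype.val ⁻¹' perp D x with hTdef
  have hT2 : ∃ p ∈ T, ∃ q ∈ T, p ≠ q := ⟨⟨a, Subgroup.subset_closure ha⟩, ha,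
    ⟨b, Subgroup.subset_closure hb⟩, hb, fun e => hab (congrArg Subtype.val e)⟩
  have h3 : Cfsg.pCore 3 ↥(Subgroup.closure (perp D x)) ≤ Subgroup.center _ := by
    refine le_trans ?_ hO
    have : Fact (Nat.Prime 2) := ⟨Nat.prime_two⟩
    have : Fact (Nat.Prime 3) := ⟨Nat.prime_three⟩
    exact PCore.pCore_le_pPrimeCore (by norm_num)
  have h2 := (core_not_central hT hT2).resolve_right (not_not.2 h3)
  obtain ⟨p, hp⟩ := hT.nonempty
  obtain ⟨u, hu, hpu⟩ := exists_not_commute_of_not_le_center hT h2 hp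
  have hmem : p * (u * p * u⁻¹) ∈ Cfsg.pCore 2 ↥(Subgroup.closure (perp D x)) := by
    rw [show p * (u * p * u⁻¹) = (p * u * p⁻¹) * u⁻¹ by rw [hT.toTSet.inv_eq hp]; group]
    exact mul_mem (PCore.pCore_normal.conj_mem u hu p) (inv_mem hu)
  have hq := hT.conj u p hp
  refine ⟨(p : G), hp, _, hq, fun e => ?_,
    (sameComm_iff_tw hD hsol).1 (sameComm_eq_of_mul_mem hT.toTSet hp hq hmem).symm⟩
  exact hpu (mul_inv_eq_iff_eq_mul.1 (Subtype.ext e)).symm

/-- Twins of everybody. -/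
theorem tw_everywhere {x : G} (hx : x ∈ D)
    (h : ∃ a ∈ perp D x, ∃ b ∈ perp D x, b ≠ a ∧ Tw D x a b) {u v : G} (hu : u ∈ D)
    (hv : v ∈ perp D u) : ∃ v' ∈ perp D u, v' ≠ v ∧ Tw D u v v' := by
  obtain ⟨a, ha, b, hb, hne, htw⟩ := h
  obtain ⟨g, rfl, rfl⟩ := exists_pair_conj hD hsol hx ha hu hv
  refine ⟨g * b * g⁻¹, conj_mem_perp hD g hb,
    fun e => hne (mul_left_cancel (mul_right_cancel e)), fun e he => ?_⟩
  obtain ⟨d, hd, rfl⟩ : ∃ d ∈ perp D x, g * d * g⁻¹ = e := by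
    have := conj_mem_perp hD g⁻¹ he
    exact ⟨g⁻¹ * e * g, by simpa [mul_assoc] using this, by simp [mul_assoc]⟩
  rw [Commute.conj_iff, Commute.conj_iff]
  exact htw d hd

/-- With twins everywhere, commuting members of `perp D x` are twins. -/
theorem tw_of_commute {x : G} (hx : x ∈ D)
    (htw : ∀ u ∈ D, ∀ v ∈ perp D u, ∃ v' ∈ perp D u, v' ≠ v ∧ Tw D u v v')
    (hs : Group.IsSolvable ↥(Subgroup.closure (perp D x)))
    {a b : G} (ha : a ∈ perp D x) (hb : b ∈ perp D x) (hab : Commute a b) : Tw D x a b := by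
  by_contra hnot
  set K := Subgroup.closure (perp D x) with hK
  have hT := perp_tClass hD hsol hx ⟨a, ha⟩
  set T : Set K := Subtype.val ⁻¹' perp D x with hTdef
  set N := Cfsg.pCore 2 K with hN
  let π := QuotientGroup.mk' N
  have heq : ∀ p ∈ T, ∀ q ∈ T, π p = π q ↔ Tw D x p q := by
    intro p hp q hq
    rw [← sameComm_iff_tw hD hsol]
    change (p : K ⧸ N) = q ↔ _
    rw [QuotientGroup.eq, hT.toTSet.inv_eq hp]
    exact ⟨fun h => (sameComm_eq_of_mul_mem hT.toTSet hp hq h).symm,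
      fun h => mul_mem_pCore_two hT hp hq h.symm⟩
  let a₀ : K := ⟨a, Subgroup.subset_closure ha⟩
  let b₀ : K := ⟨b, Subgroup.subset_closure hb⟩
  have hab' : π a₀ ≠ π b₀ := fun h => hnot ((heq a₀ ha b₀ hb).1 h)
  have hne1 : ∀ p ∈ T, π p ≠ 1 := by
    intro p hp h
    have hall : ∀ q ∈ T, π q = 1 := fun q hq => by
      obtain ⟨g, rfl⟩ := hT.trans p hp q hq
      rw [map_mul, map_mul, h, mul_one, ← map_mul, mul_inv_cancel, map_one]
    exact hab' ((hall a₀ ha).trans (hall b₀ hb).symm)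
  have hQ : TClass (π '' T) := by
    refine ⟨⟨?_, ?_, ?_, ?_⟩, ?_, ?_, ⟨π a₀, a₀, ha, rfl⟩⟩
    · rintro _ ⟨d, hd, rfl⟩; rw [← map_mul, hT.sq d hd, map_one]
    · rintro _ ⟨d, hd, rfl⟩ h; exact hne1 d hd h
    · rintro _ ⟨d, hd, rfl⟩ _ ⟨e, he, rfl⟩
      rw [← map_mul, ← map_pow, ← map_pow]
      exact (hT.ord d hd e he).imp (fun h => by rw [h, map_one]) (fun h => by rw [h, map_one])
    · intro g
      obtain ⟨g, rfl⟩ := QuotientGroup.mk'_surjective N g
      rintro _ ⟨d, hd, rfl⟩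
      exact ⟨g * d * g⁻¹, hT.conj g d hd, by simp [π]⟩
    · rintro _ ⟨d, hd, rfl⟩ _ ⟨e, he, rfl⟩
      obtain ⟨g, rfl⟩ := hT.trans d hd e he
      exact ⟨π g, by simp⟩
    · rw [← MonoidHom.map_closure, hT.gen]
      exact Subgroup.map_top_of_surjective π (QuotientGroup.mk'_surjective N)
  have hcomm : ∀ p ∈ T, ∀ q ∈ T, Commute (π p) (π q) → Commute (p : G) q := by
    intro p hp q hq hc
    by_contra hn
    have h3 : (p * q) ^ 3 = 1 := (hT.ord p hp q hq).resolve_left fun h =>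
      hn ((hT.toTSet.commute_of_sq hp hq h).map K.subtype)
    have h3' : (π p * π q) ^ 3 = 1 := by rw [← map_mul, ← map_pow, h3, map_one]
    have h2' : (π p * π q) ^ 2 = 1 := by
      rw [hc.mul_pow, ← map_pow, ← map_pow, pow_two, pow_two, hT.sq p hp, hT.sq q hq, map_one,
        one_mul]
    rw [pow_succ, h2', one_mul, mul_eq_one_iff_eq_inv,
      hQ.toTSet.inv_eq ⟨q, hq, rfl⟩, heq p hp q hq] at h3'
    exact hn ((h3' q hq).2 (Commute.refl _))
  have hcom' : Commute a₀ b₀ := Subtype.ext hab.eq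
  have : Group.IsSolvable (K ⧸ N) :=
    Group.isSolvable_of_surjective (QuotientGroup.mk'_surjective N)
  have hQ2 : ∃ p ∈ π '' T, ∃ q ∈ π '' T, p ≠ q :=
    ⟨π a₀, ⟨a₀, ha, rfl⟩, π b₀, ⟨b₀, hb, rfl⟩, hab'⟩
  have : Fact (Nat.Prime 2) := ⟨Nat.prime_two⟩
  have h3 : ¬Cfsg.pCore 3 (K ⧸ N) ≤ Subgroup.center _ :=
    (core_not_central hQ hQ2).resolve_left (not_not.2 ((le_of_eq (PCore.pCore_quotient_self_eq_bot (p := 2) (G := K))).trans bot_le))
  obtain ⟨u, hu, hau⟩ := exists_not_commute_of_not_le_center hQ h3 (d := π a₀) ⟨a₀, ha, rfl⟩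
  obtain ⟨a', ha', hπa'⟩ := hQ.conj u (π a₀) ⟨a₀, ha, rfl⟩
  have hne : π a' ≠ π a₀ := fun e => hau (mul_inv_eq_iff_eq_mul.1 (hπa'.symm.trans e)).symm
  have hmem : π a₀ * π a' ∈ Cfsg.pCore 3 (K ⧸ N) := by
    rw [hπa', show π a₀ * (u * π a₀ * u⁻¹) = (π a₀ * u * (π a₀)⁻¹) * u⁻¹ by
      rw [hQ.toTSet.inv_eq ⟨a₀, ha, rfl⟩]; group]
    exact mul_mem (PCore.pCore_normal.conj_mem u hu _) (inv_mem hu)
  have hperp := perp_eq_of_mul_mem hQ.toTSet ⟨a₀, ha, rfl⟩ ⟨a', ha', rfl⟩ hmem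
  have haa' : ¬Commute (a : G) a' := by
    intro h
    have h' : π a' ∈ perp (π '' T) (π a₀) :=
      ⟨⟨a', ha', rfl⟩, hne, (show Commute a₀ a' from Subtype.ext h.eq).map π⟩
    rw [hperp] at h'
    exact h'.2.1 rfl
  have hlift : ∀ c : G, (hc : c ∈ perp D x) → Commute a c → ¬Tw D x a c → Commute (a' : G) c := by
    intro c hc hac hn
    let c₀ : K := ⟨c, Subgroup.subset_closure hc⟩
    have h' : π c₀ ∈ perp (π '' T) (π a₀) :=
      ⟨⟨c₀, hc, rfl⟩, fun e => hn ((heq a₀ ha c₀ hc).1 e.symm),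
        (show Commute a₀ c₀ from Subtype.ext hac.eq).map π⟩
    rw [hperp] at h'
    exact hcomm a' ha' c₀ hc h'.2.2
  -- the line through a and b
  have hba : b ∈ perp D a := ⟨hb.1, fun e => hnot (e ▸ fun _ _ => Iff.rfl), hab⟩
  obtain ⟨c, hc, hcb, hbc⟩ := htw a ha.1 b hba
  have hxa : x ∈ perp D a := perp_symm hx ha
  have hcx : Commute x c := ((hbc x hxa).1 hb.2.2.symm).symm
  have hbc' : Commute c b := (hbc b hba).1 (Commute.refl b)
  have hcne : c ≠ x := by
    intro e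
    subst e
    refine hnot (tw_of_subset hD hsol hx ha hb fun e he hae => ?_)
    by_cases hea : e = a
    · exact hea ▸ hab.symm
    · exact (hbc e ⟨he.1, hea, hae⟩).2 he.2.2
  have hcA : c ∈ perp D x := ⟨hc.1, hcne, hcx⟩
  have hcn : ¬Tw D x a c := by
    intro h
    refine hnot (tw_of_subset hD hsol hx ha hb fun e he hae => ?_)
    by_cases hea : e = a
    · exact hea ▸ hab.symm
    · exact (hbc e ⟨he.1, hea, hae⟩).2 ((h e he).1 hae)
  have h1 := hlift b hb hab hnot
  have h2 := hlift c hcA hc.2.2 hcn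
  have hsub : both D a b ⊆ both D b c := by
    rintro e ⟨he, hea, heb⟩
    refine ⟨he, heb, ?_⟩
    by_cases h : e = a
    · exact h ▸ hc.2.2
    · exact ((hbc e ⟨he, h, hea.symm⟩).1 heb.symm).symm
  have heq' := Set.eq_of_subset_of_ncard_le hsub
    (ncard_both_eq hD hsol hb.1 ⟨hc.1, hcb, hbc'.symm⟩ ha.1 hba).le (Set.toFinite _)
  have : (a' : G) ∈ both D b c := ⟨ha'.1, h1, h2⟩
  rw [← heq'] at this
  exact haa' this.2.1.symm

end

/-- Solvable `⟨D_x⟩` with central odd core gives the geometry of lines. -/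
theorem GQ.of_solvable [Finite G] (hD : TClass D)
    (hsol : ∀ N : Subgroup G, N.Normal → Group.IsSolvable ↥N → N = ⊥)
    (hperf : ⁅commutator G, commutator G⁆ = commutator G) {x : G} (hx : x ∈ D)
    (hs : Group.IsSolvable ↥(Subgroup.closure (perp D x)))
    (hO : Cfsg.oddCore ↥(Subgroup.closure (perp D x)) ≤ Subgroup.center _) : GQ D := by
  have hsol' : ∀ N : Subgroup G, N.Normal → Group.IsSolvable ↥N → N ≤ commutator G → N = ⊥ :=
    fun N h1 h2 _ => hsol N h1 h2
  have hcen : Subgroup.center G = ⊥ :=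
    hsol _ inferInstance (Group.isSolvable_of_comm fun a b => Subtype.ext
      (Subgroup.mem_center_iff.1 b.2 a))
  have hnc : ∀ u ∈ D, ∃ w ∈ D, ¬Commute u w := by
    intro u hu
    by_contra h
    push Not at h
    have := eq_top_of_mem_center hD (g := u) fun d hd => (h d hd).symm
    rw [hcen, Subgroup.mem_bot] at this
    exact hD.ne_one u hu this
  have hconn := commuting_connected_of_perfect hD hperf
  have hA2 : ∃ a ∈ perp D x, ∃ b ∈ perp D x, a ≠ b := by
    obtain ⟨w, hw, hxw⟩ := hnc x hx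
    have hne : ∀ v ∈ D, (perp D v).Nonempty := by
      intro v hv
      by_contra h
      rw [Set.not_nonempty_iff_eq_empty] at h
      obtain ⟨w', hw', hvw'⟩ := hnc v hv
      have : ∀ z, Relation.ReflTransGen (CAdj D) v z → z = v := by
        intro z hz
        induction hz with
        | refl => rfl
        | tail _ hb ih =>
          subst ih
          by_contra hne
          exact (Set.eq_empty_iff_forall_notMem.1 h _) ⟨hb.1, hne, hb.2⟩
      exact hvw' (this w' (hconn v hv w' hw') ▸ Commute.refl v)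
    obtain ⟨a, ha⟩ := hne x hx
    by_contra h
    push Not at h
    have hone : ∀ u ∈ D, ∀ p ∈ perp D u, ∀ q ∈ perp D u, p = q := by
      intro u hu p hp q hq
      obtain ⟨g, rfl⟩ := hD.trans x hx u hu
      have hp' := conj_mem_perp hD g⁻¹ hp
      have hq' := conj_mem_perp hD g⁻¹ hq
      rw [show g⁻¹ * (g * x * g⁻¹) * g⁻¹⁻¹ = x by simp [mul_assoc]] at hp' hq'
      exact mul_left_cancel (mul_right_cancel (h _ hp' _ hq'))
    have : ∀ z, Relation.ReflTransGen (CAdj D) x z → z = x ∨ z = a := by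
      intro z hz
      induction hz with
      | refl => exact Or.inl rfl
      | tail _ hb ih =>
        rename_i p q _
        by_cases hqp : q = p
        · rwa [hqp]
        rcases ih with rfl | rfl
        · exact Or.inr (hone _ hx q ⟨hb.1, hqp, hb.2⟩ _ ha)
        · exact Or.inl (hone _ ha.1 q ⟨hb.1, hqp, hb.2⟩ _ (perp_symm hx ha))
    rcases this w (hconn x hx w hw) with rfl | rfl
    · exact hxw (Commute.refl _)
    · exact hxw ha.2.2
  obtain ⟨a, ha, b, hb, hab⟩ := hA2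
  have htw : ∀ u ∈ D, ∀ v ∈ perp D u, ∃ v' ∈ perp D u, v' ≠ v ∧ Tw D u v v' :=
    fun u hu v hv => tw_everywhere hD hsol' hx
      (exists_tw hD hsol' hx ⟨a, ha, b, hb, hab⟩ hs hO) hu hv
  refine ⟨hD, hsol', hconn, hcen, ?_, fun u hu v hv => ?_, fun u hu => ?_, hnc⟩
  · intro u hu v hv e he f hf heu hev hfu hfv
    obtain ⟨g, hgu, hgv⟩ := exists_pair_conj hD hsol' hx ha hu hv
    subst hgu hgv
    obtain ⟨e, rfl⟩ : ∃ d, g * d * g⁻¹ = e := ⟨g⁻¹ * e * g, by simp [mul_assoc]⟩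
    obtain ⟨f, rfl⟩ : ∃ d, g * d * g⁻¹ = f := ⟨g⁻¹ * f * g, by simp [mul_assoc]⟩
    rw [Commute.conj_iff] at heu hev hfu hfv ⊢
    have he' : e ∈ D := by simpa [mul_assoc] using hD.conj g⁻¹ _ he
    have hf' : f ∈ D := by simpa [mul_assoc] using hD.conj g⁻¹ _ hf
    by_cases hex : e = x
    · exact hex ▸ hfu.symm
    by_cases hfx : f = x
    · exact hfx ▸ heu
    have := tw_of_commute hD hsol' hx htw hs ha ⟨he', hex, heu.symm⟩ hev.symm
    exact (this f ⟨hf', hfx, hfu.symm⟩).1 hfv.symm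
  · obtain ⟨v', hv', hne, htw'⟩ := htw u hu v hv
    exact ⟨v', hv', hne, ((htw' v hv).1 (Commute.refl v)).symm⟩
  · obtain ⟨g, rfl⟩ := hD.trans x hx u hu
    exact ⟨_, conj_mem_perp hD g ha⟩

end Cfsg.Agent.Fischer.Solv
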