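import Cfsg.Agent.Lib.Fischer.Solvable.Identify
import Cfsg.Agent.Lib.Fischer.Solvable.Data.DataS6Checks
import Cfsg.Agent.Lib.Fischer.Solvable.Data.DataU4Checks
import Cfsg.Agent.Lib.Fischer.Solvable.Data.DataU5Checks

/-!
Choice of generators for the three parameter sets, and the resulting isomorphism with a model.
-/

set_option autoImplicit false

namespace Cfsg.Agent.Fischer.Solv

open Cfsg

variable {G : Type*} [Group G] {D : Set G}

/-- Generators given by a list. -/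
def gens (L : List G) (g : ℕ) : G := L.getD g 1

namespace GQ

variable (hQ : GQ D)
include hQ

theorem prj_third {x w a b : G} (hx : x ∈ D) (hw : w ∈ nbr D x) (ha : a ∈ prj D x w)
    (hb : b ∈ prj D x w) (hne : a ≠ b) :
    ¬Commute a b ∧ a * b * a ≠ a ∧ a * b * a ≠ b :=
  have hn : ¬Commute a b := fun h => hne (hQ.prj_width_one hx hw ha hb h)
  ⟨hn, hQ.ts.third_ne ha.1.1 hb.1.1 hn⟩

theorem commute_star_tau {x w v o : G} (hv : v ∈ perp D x) (ho : o ∈ prj D x w) :
    Commute (v * o * v) (tau x v w) := by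
  have h1 : Commute (v * o * v) x := (hv.2.2.symm.mul_left ho.1.2.2.symm).mul_left hv.2.2.symm
  have h2 : Commute (v * o * v) (v * w * v) := (commute_invol_conj (hQ.sq v hv.1)).2 ho.2
  exact (h1.mul_right h2).mul_right h1

theorem org_three {x w p₁ p₂ : G} (hx : x ∈ D) (hw : w ∈ nbr D x) (h1 : p₁ ∈ prj D x w)
    (h2 : p₂ ∈ prj D x w) (hne : p₁ ≠ p₂) {γ : ℕ → G} (e0 : γ 0 = p₁) (e1 : γ 1 = p₂) {S : Shape}
    (hS : S.m = 1 ∧ S.np = 2 ∧ S.ow = [([], 0), ([], 1), ([0], 1)] ∧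
      S.cg.getD 0 0 = 0 ∧ S.cg.getD 1 0 = 1) :
    (∀ g, g < S.np → ∀ l, l < 3 ^ S.m → γ g * val γ (S.org l) * γ g =
      val γ (S.org (op S.m (S.cg.getD g 0) l))) ∧
    ∀ l, l < 3 ^ S.m → ∀ l', l' < 3 ^ S.m → val γ (S.org l) = val γ (S.org l') → l = l' := by
  obtain ⟨hm, hnp, how, hc0, hc1⟩ := hS
  obtain ⟨hn, hn1, hn2⟩ := hQ.prj_third hx hw h1 h2 hne
  have v0 : val γ (S.org 0) = p₁ := by rw [Shape.org, how]; simp [val_nil, e0]
  have v1 : val γ (S.org 1) = p₂ := by rw [Shape.org, how]; simp [val_nil, e1]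
  have v2 : val γ (S.org 2) = p₁ * p₂ * p₁ := by
    rw [Shape.org, how]; simp [val_cons, val_nil, e0, e1]
  constructor
  · intro g hg l hl
    rw [hnp] at hg
    rw [hm] at hl ⊢
    have q0 : p₁ * p₁ * p₁ = p₁ := invol_conj_eq_of_commute (hQ.sq _ h1.1.1) (Commute.refl _)
    have q1 : p₂ * p₂ * p₂ = p₂ := invol_conj_eq_of_commute (hQ.sq _ h2.1.1) (Commute.refl _)
    have q2 : p₁ * (p₁ * p₂ * p₁) * p₁ = p₂ := invol_conj_invol (hQ.sq _ h1.1.1) _
    have q3 : p₂ * p₁ * p₂ = p₁ * p₂ * p₁ := (hQ.ts.braid h1.1.1 h2.1.1 hn).symm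
    have q4 : p₂ * (p₁ * p₂ * p₁) * p₂ = p₁ := by
      rw [hQ.ts.braid h1.1.1 h2.1.1 hn]
      exact invol_conj_invol (hQ.sq _ h2.1.1) _
    interval_cases g <;> interval_cases l <;>
      simp only [hc0, hc1, op, if_true, Nat.reduceAdd, Nat.reduceSub, Nat.reduceMod, v0, v1, v2, e0, e1, q0, q1, q2, q3, q4]
  · intro l hl l' hl' h
    rw [hm] at hl hl'
    interval_cases l <;> interval_cases l' <;> simp only [v0, v1, v2] at h <;> first
      | rfl
      | exact absurd h hne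
      | exact absurd h.symm hne
      | exact absurd h hn1
      | exact absurd h.symm hn1
      | exact absurd h hn2
      | exact absurd h.symm hn2

variable [Finite G]

theorem iso_six (hs : ∀ u ∈ D, ∀ a ∈ perp D u, (blk D u a).ncard = 2)
    (hn : ∀ u ∈ D, ∀ v ∈ nbr D u, (prj D u v).ncard = 3)
    (hA : ∀ u ∈ D, (perp D u).ncard = 3 * 2) (hN : ∀ u ∈ D, (nbr D u).ncard = 2 * 2 * (3 - 1))
    {x : G} (hx : x ∈ D) : Nonempty (G ≃* DataS6.model.grp) := by
  obtain ⟨w, hwD, hxw⟩ := hQ.not_all_commute x hx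
  have hw : w ∈ nbr D x := ⟨hwD, hxw⟩
  obtain ⟨p₁, p₂, h1, h2, hne⟩ := (Set.one_lt_ncard_iff (Set.toFinite _)).1
    (show 1 < (prj D x w).ncard by rw [hn x hx w hw]; norm_num)
  obtain ⟨a₁, a₂, hne12, hblk⟩ := Set.ncard_eq_two.1 (hs x hx p₁ h1.1)
  obtain ⟨a, hane, hblk'⟩ : ∃ a, a ≠ p₁ ∧ blk D x p₁ = {p₁, a} := by
    have hm : p₁ ∈ blk D x p₁ := ⟨h1.1, Commute.refl _⟩
    rw [hblk] at hm
    rcases hm with rfl | hm
    · exact ⟨a₂, hne12.symm, hblk⟩
    · rw [Set.mem_singleton_iff] at hm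
      subst hm
      exact ⟨a₁, hne12, by rw [hblk, Set.pair_comm]⟩
  set γ := gens [p₁, p₂, a, x] with hγ
  have ha : a ∈ blk D x p₁ := by rw [hblk']; simp
  obtain ⟨heq, hinj⟩ := hQ.org_three hx hw h1 h2 hne (γ := γ) rfl rfl (S := DataS6.shape)
    ⟨rfl, rfl, rfl, rfl, rfl⟩
  have hC : Coords D x w DataS6.shape γ := by
    refine coords_of_gens hQ hx hw _ DataS6.shape_ok rfl ?_ ?_ heq hinj (hn x hx w hw) ?_ ?_
    · intro g hg
      change g < 2 at hg
      interval_cases g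
      · exact h1
      · exact h2
    · intro g hg hg'
      change 2 ≤ g at hg
      change g < 3 at hg'
      obtain rfl : g = 2 := by omega
      exact ha
    · intro b hb
      rw [show γ 0 = p₁ from rfl, hblk'] at hb
      rcases hb with rfl | hb
      · exact ⟨([], 0), by simp [DataS6.shape], val_nil γ 0⟩
      · rw [Set.mem_singleton_iff] at hb
        exact ⟨([], 2), by simp [DataS6.shape], by rw [val_nil, hb]; rfl⟩
    · intro r hr
      simp [DataS6.shape] at hr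
  exact nonempty_model_iso hQ _ DataS6.good hx hw hC ((hA x hx).trans (by rfl))
    ((hN x hx).trans (by rfl))

theorem iso_u4 (hs : ∀ u ∈ D, ∀ a ∈ perp D u, (blk D u a).ncard = 4)
    (hn : ∀ u ∈ D, ∀ v ∈ nbr D u, (prj D u v).ncard = 3)
    (hA : ∀ u ∈ D, (perp D u).ncard = 3 * 4) (hN : ∀ u ∈ D, (nbr D u).ncard = 4 * 4 * (3 - 1))
    {x : G} (hx : x ∈ D) : Nonempty (G ≃* DataU4.model.grp) := by
  obtain ⟨w, hwD, hxw⟩ := hQ.not_all_commute x hx
  have hw : w ∈ nbr D x := ⟨hwD, hxw⟩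
  obtain ⟨p₁, p₂, h1, h2, hne⟩ := (Set.one_lt_ncard_iff (Set.toFinite _)).1
    (show 1 < (prj D x w).ncard by rw [hn x hx w hw]; norm_num)
  have hm : p₁ ∈ blk D x p₁ := ⟨h1.1, Commute.refl _⟩
  have h3 : (blk D x p₁ \ {p₁}).ncard = 3 := by
    rw [Set.ncard_sdiff_singleton_of_mem hm, hs x hx p₁ h1.1]
  obtain ⟨a, b, c, hab, hac, hbc, he⟩ := Set.ncard_eq_three.1 h3
  have mem : ∀ z, z ∈ blk D x p₁ ↔ z = p₁ ∨ z = a ∨ z = b ∨ z = c := by
    intro z
    constructor
    · intro hz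
      by_cases hzp : z = p₁
      · exact Or.inl hzp
      · have : z ∈ blk D x p₁ \ {p₁} := ⟨hz, hzp⟩
        rw [he] at this
        exact Or.inr (by simpa using this)
    · rintro (rfl | h)
      · exact hm
      · exact (show z ∈ blk D x p₁ \ {p₁} by rw [he]; simpa using h).1
  have hp : ∀ z, z = a ∨ z = b ∨ z = c → z ≠ p₁ := fun z h =>
    (show z ∈ blk D x p₁ \ {p₁} by rw [he]; simpa using h).2
  have ha := (mem a).2 (Or.inr (Or.inl rfl))
  have hb := (mem b).2 (Or.inr (Or.inr (Or.inl rfl)))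
  have hc := (mem c).2 (Or.inr (Or.inr (Or.inr rfl)))
  set γ := gens [p₁, p₂, a, b, c, x] with hγ
  obtain ⟨heq, hinj⟩ := hQ.org_three hx hw h1 h2 hne (γ := γ) rfl rfl (S := DataU4.shape)
    ⟨rfl, rfl, rfl, rfl, rfl⟩
  have hl := hQ.line_prod hx h1.1 ha.1 hb.1 hc.1 ha.2 hb.2 hc.2
    ⟨(hp a (Or.inl rfl)).symm, (hp b (Or.inr (Or.inl rfl))).symm,
      (hp c (Or.inr (Or.inr rfl))).symm, hab, hac, hbc⟩ fun e he => (mem e).1 he
  have hC : Coords D x w DataU4.shape γ := by
    refine coords_of_gens hQ hx hw _ DataU4.shape_ok rfl ?_ ?_ heq hinj (hn x hx w hw) ?_ ?_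
    · intro g hg
      change g < 2 at hg
      interval_cases g
      · exact h1
      · exact h2
    · intro g hg hg'
      change 2 ≤ g at hg
      change g < 5 at hg'
      interval_cases g
      · exact ha
      · exact hb
      · exact hc
    · intro z hz
      rcases (mem z).1 hz with rfl | rfl | rfl | rfl
      · exact ⟨([], 0), by simp [DataU4.shape], val_nil γ 0⟩
      · exact ⟨([], 2), by simp [DataU4.shape], val_nil γ 2⟩
      · exact ⟨([], 3), by simp [DataU4.shape], val_nil γ 3⟩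
      · exact ⟨([], 4), by simp [DataU4.shape], val_nil γ 4⟩
    · intro r hr
      simp only [DataU4.shape, List.mem_singleton] at hr
      subst hr
      show p₁ * (a * (b * (c * (x * 1)))) = 1
      have := mul_eq_one_comm.1 hl
      simpa only [mul_assoc, mul_one] using this
  exact nonempty_model_iso hQ _ DataU4.good hx hw hC ((hA x hx).trans (by rfl))
    ((hN x hx).trans (by rfl))

end GQ

/-- The label of a word in three width one generators. -/
def labW (u : List ℕ × ℕ) : Fin 81 :=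
  u.1.foldr (fun g v => HTS.sigFun ⟨g % 4, Nat.mod_lt _ (by norm_num)⟩ v)
    (HTS.genLabel ⟨u.2 % 4, Nat.mod_lt _ (by norm_num)⟩)

/-- Evaluations used below. -/
theorem labW_op : ∀ g : Fin 3, ∀ l : Fin 9,
    labW ((g : ℕ) :: (DataU5.shape.org l).1, (DataU5.shape.org l).2) =
      labW (DataU5.shape.org (op 2 (DataU5.shape.cg.getD g 0) l)) := by decide +kernel

theorem labW_org : labW (DataU5.shape.org 0) = labW ([], 0) ∧
    labW ([0, 1, 0], 0) = labW ([], 1) ∧ labW ([0, 2, 0], 0) = labW ([], 2) ∧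
    labW ([0, 1, 2, 1, 0], 0) = labW ([1], 2) ∧
    labW ([0, 1, 0, 1, 2, 1, 0, 2, 0], 0) = labW ([], 0) := by decide +kernel

theorem org_small : ∀ l : Fin 9, (DataU5.shape.org l).2 < 3 ∧
    ∀ g ∈ (DataU5.shape.org l).1, g < 3 := by decide +kernel

theorem val_lab [Finite G] (hQ : GQ D) {x w : G} (hx : x ∈ D) (hw : w ∈ nbr D x) {γ : ℕ → G}
    (hγ : ∀ g, g < 3 → γ g ∈ prj D x w) {u v : List ℕ × ℕ} (hu : u.2 < 3) (hu' : ∀ g ∈ u.1, g < 3)
    (hv : v.2 < 3) (hv' : ∀ g ∈ v.1, g < 3) (h : labW u = labW v) : val γ u = val γ v := by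
  let a : Fin 4 → G := ![γ 0, γ 1, γ 2, γ 0]
  have ha : ∀ i, a i ∈ prj D x w := by
    intro i
    fin_cases i
    · exact hγ 0 (by norm_num)
    · exact hγ 1 (by norm_num)
    · exact hγ 2 (by norm_num)
    · exact hγ 0 (by norm_num)
  have hsq : ∀ i, a i * a i = 1 := fun i => hQ.sq _ (ha i).1.1
  have hpt : ∀ p, HTS.pt a p ∈ prj D x w := by
    intro p
    unfold HTS.pt
    generalize (HTS.wd p).1 = l
    induction l with
    | nil =>
      show a ⟨(HTS.wd p).2 % 4, Nat.mod_lt _ (by norm_num)⟩ ∈ prj D x w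
      exact ha _
    | cons g l ih => exact hQ.conj_prj (ha _) ih
  have hbr : ∀ p q, HTS.pt a p * HTS.pt a q * HTS.pt a p =
      HTS.pt a q * HTS.pt a p * HTS.pt a q := by
    intro p q
    by_cases hc : Commute (HTS.pt a p) (HTS.pt a q)
    · rw [hQ.prj_width_one hx hw (hpt p) (hpt q) hc]
    · exact hQ.ts.braid (hpt p).1.1 (hpt q).1.1 hc
  have htbl := HTS.finalTbl_sound hsq hbr
  have hσ : ∀ (i : Fin 4) (p : Fin 81),
      a i * HTS.pt a p * a i = HTS.pt a (HTS.sigFun i p).1 := by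
    intro i p
    have h3 := HTS.look_sound htbl (HTS.finalTbl_ok i p)
    have hg : HTS.gen a (i : ℕ) = a i := congrArg a (Fin.ext (Nat.mod_eq_of_lt i.2))
    simp only [HTS.cg, hg] at h3
    rw [h3, HTS.sigFun]
    dsimp only
    rw [Nat.mod_eq_of_lt (HTS.sigData_lt i p)]
  have hi : ∀ g, g < 3 → a ⟨g % 4, Nat.mod_lt _ (by norm_num)⟩ = γ g := by
    intro g hg
    interval_cases g <;> rfl
  have key : ∀ (pre : List ℕ) (b : ℕ), b < 3 → (∀ g ∈ pre, g < 3) →
      HTS.pt a (labW (pre, b)).1 = val γ (pre, b) := by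
    intro pre
    induction pre with
    | nil =>
      intro b hb _
      rw [val_nil, ← hi b hb]
      show HTS.pt a (HTS.genLabel ⟨b % 4, Nat.mod_lt b (show 4 > 0 by norm_num)⟩).1 =
        a ⟨b % 4, Nat.mod_lt b (show 4 > 0 by norm_num)⟩
      unfold HTS.pt
      rw [HTS.genLabel_ok]
      show HTS.gen a (b % 4) = _
      unfold HTS.gen
      congr 1
      exact Fin.ext (Nat.mod_mod _ _)
    | cons g pre ih =>
      intro b hb hp
      rw [val_cons, ← ih b hb (fun k hk => hp k (List.mem_cons_of_mem _ hk)),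
        ← hi g (hp g List.mem_cons_self), hσ]
      rfl
  rw [← key u.1 u.2 hu hu', ← key v.1 v.2 hv hv', show (u.1, u.2) = u from rfl,
    show (v.1, v.2) = v from rfl, h]

namespace GQ

variable [Finite G] (hQ : GQ D)
include hQ

theorem org_nine {x w : G} (hx : x ∈ D) (hw : w ∈ nbr D x) {γ : ℕ → G}
    (hγ : ∀ g, g < 3 → γ g ∈ prj D x w) (h01 : γ 0 ≠ γ 1) (h02 : γ 2 ≠ γ 0) (h12 : γ 2 ≠ γ 1)
    (h32 : γ 2 ≠ γ 0 * γ 1 * γ 0) :
    (∀ g, g < 3 → ∀ l, l < 9 → γ g * val γ (DataU5.shape.org l) * γ g =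
      val γ (DataU5.shape.org (op 2 (DataU5.shape.cg.getD g 0) l))) ∧
    ∀ l, l < 9 → ∀ l', l' < 9 →
      val γ (DataU5.shape.org l) = val γ (DataU5.shape.org l') → l = l' := by
  set O : ℕ → G := fun l => val γ (DataU5.shape.org l) with hO
  have hop : ∀ g, g < 3 → ∀ l, l < 9 → op 2 (DataU5.shape.cg.getD g 0) l < 9 := by decide +kernel
  have heq : ∀ g, g < 3 → ∀ l, l < 9 →
      γ g * O l * γ g = O (op 2 (DataU5.shape.cg.getD g 0) l) := by
    intro g hg l hl
    rw [← val_cons γ g]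
    obtain ⟨h1, h2⟩ := org_small ⟨l, hl⟩
    obtain ⟨h3, h4⟩ := org_small ⟨_, hop g hg l hl⟩
    refine val_lab hQ hx hw hγ h1 (fun k hk => ?_) h3 h4 (labW_op ⟨g, hg⟩ ⟨l, hl⟩)
    rcases List.mem_cons.1 hk with rfl | hk
    · exact hg
    · exact h2 k hk
  refine ⟨heq, ?_⟩
  set S : Set G := O '' Set.Iio 9 with hS
  have hconj : ∀ g, g < 3 → ∀ e ∈ S, γ g * e * γ g ∈ S := by
    rintro g hg _ ⟨l, hl, rfl⟩
    exact ⟨_, hop g hg l hl, (heq g hg l hl).symm⟩
  have hval : ∀ (pre : List ℕ) (a : ℕ), a < 3 → (∀ g ∈ pre, g < 3) →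
      val γ (pre, a) ∈ prj D x w ∧ ∀ e ∈ S, val γ (pre, a) * e * val γ (pre, a) ∈ S := by
    intro pre
    induction pre with
    | nil => intro a ha _; rw [val_nil]; exact ⟨hγ a ha, hconj a ha⟩
    | cons g pre ih =>
      intro a ha hp
      obtain ⟨hm, hi⟩ := ih a ha fun k hk => hp k (List.mem_cons_of_mem _ hk)
      have hg := hp g List.mem_cons_self
      rw [val_cons]
      refine ⟨hQ.conj_prj (hγ g hg) hm, fun e he => ?_⟩
      have := hconj g hg _ (hi _ (hconj g hg e he))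
      simpa only [mul_assoc] using this
  have hsub : S ⊆ prj D x w := by
    rintro _ ⟨l, hl, rfl⟩
    exact (hval _ _ (org_small ⟨l, hl⟩).1 (org_small ⟨l, hl⟩).2).1
  obtain ⟨j, hj⟩ := ncard_eq_three_pow hQ.ts (fun e he => (hsub he).1.1) (S := S)
    ⟨O 0, 0, by simp, rfl⟩
    (fun a ha b hb h => hQ.prj_width_one hx hw (hsub ha) (hsub hb) h)
    (by
      rintro _ ⟨l, hl, rfl⟩ b hb
      exact (hval _ _ (org_small ⟨l, hl⟩).1 (org_small ⟨l, hl⟩).2).2 b hb)
  have hle : S.ncard ≤ 9 := by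
    refine (Set.ncard_image_le (Set.toFinite _)).trans ?_
    rw [← Finset.coe_Iio, Set.ncard_coe_finset, Nat.card_Iio]
  have m0 : γ 0 ∈ S := ⟨0, by simp, val_nil γ 0⟩
  have m1 : γ 1 ∈ S := ⟨1, by simp, val_nil γ 1⟩
  have m2 : γ 2 ∈ S := ⟨3, by simp, val_nil γ 2⟩
  have m3 : γ 0 * γ 1 * γ 0 ∈ S := hconj 0 (by norm_num) _ m1
  obtain ⟨-, hn1, hn2⟩ := hQ.prj_third hx hw (hγ 0 (by norm_num)) (hγ 1 (by norm_num)) h01
  have h4 : 4 ≤ S.ncard := by
    calc 4 = ({γ 2, γ 0 * γ 1 * γ 0, γ 0, γ 1} : Set G).ncard := by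
          rw [Set.ncard_insert_of_notMem (by simp [h32, h02, h12]) (Set.toFinite _),
            Set.ncard_insert_of_notMem (by simp [hn1, hn2]) (Set.toFinite _), Set.ncard_pair h01]
      _ ≤ S.ncard := Set.ncard_le_ncard (by
          rintro z (rfl | rfl | rfl | rfl) <;> assumption) (Set.toFinite _)
  have h9 : S.ncard = 9 := by
    rw [hj] at hle h4 ⊢
    rcases j with _ | _ | _ | j
    · norm_num at h4
    · norm_num at h4
    · norm_num
    · have : 27 ≤ 3 ^ (j + 3) := by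
        rw [pow_add]; have := Nat.one_le_pow j 3 (by norm_num); omega
      omega
  have hinj : Set.InjOn O (Set.Iio 9) := by
    refine Set.injOn_of_ncard_image_eq ?_ (Set.toFinite _)
    rw [← hS, h9, ← Finset.coe_Iio, Set.ncard_coe_finset, Nat.card_Iio]
  exact fun l hl l' hl' h => hinj hl hl' h

/-- The point reflections of a triangle move every member of a class off its origin. -/
theorem move_ne {x w : G} (hx : x ∈ D) (hw : w ∈ nbr D x) {γ : ℕ → G}
    (hγ : ∀ g, g < 3 → γ g ∈ prj D x w)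
    (hinj : ∀ l, l < 9 → ∀ l', l' < 9 →
      val γ (DataU5.shape.org l) = val γ (DataU5.shape.org l') → l = l')
    {v : G} (hv : v ∈ blk D x (γ 0)) (hne : v ≠ γ 0)
    {U : G} (hU : U = (([0, 1, 0, 1, 2, 1, 0, 2, 0] : List ℕ).map γ).prod) :
    U * v * U⁻¹ ≠ v := by
  intro hfix
  set p := γ 0 with hp0
  set b := γ 1 with hb0
  set d := γ 2 with hd0
  set oc := p * b * p with hoc
  set og := p * d * p with hog
  set oe := b * d * b with hoe
  set oh := p * oe * p with hoh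
  have hp : p ∈ prj D x w := hγ 0 (by norm_num)
  have hb : b ∈ prj D x w := hγ 1 (by norm_num)
  have hd : d ∈ prj D x w := hγ 2 (by norm_num)
  have hT := hQ.ts
  have hpb : p ≠ b := fun h => absurd (hinj 0 (by norm_num) 1 (by norm_num)
    ((val_nil γ 0).trans (h.trans (val_nil γ 1).symm))) (by norm_num)
  have vc : val γ ([0], 1) = oc := by rw [val_cons, val_nil]
  have vg : val γ ([0], 2) = og := by rw [val_cons, val_nil]
  have ve : val γ ([1], 2) = oe := by rw [val_cons, val_nil]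
  have vh : val γ ([0, 1], 2) = oh := by rw [val_cons, ve]
  have hne' : ∀ l, l < 9 → l ≠ 0 → val γ (DataU5.shape.org l) ≠ p := fun l hl h0 e =>
    h0 (hinj l hl 0 (by norm_num) (e.trans (val_nil γ 0).symm))
  have hocp : oc ≠ p := fun e => hne' 2 (by norm_num) (by norm_num) (vc.trans e)
  have hogp : og ≠ p := fun e => hne' 6 (by norm_num) (by norm_num) (vg.trans e)
  have hohp : oh ≠ p := fun e => hne' 4 (by norm_num) (by norm_num) (vh.trans e)
  have hbd : b ≠ d := fun e => absurd (hinj 1 (by norm_num) 3 (by norm_num)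
    ((val_nil γ 1).trans (e.trans (val_nil γ 2).symm))) (by norm_num)
  have hoed : oe ≠ d := (hQ.prj_third hx hw hb hd hbd).2.2
  have hocm : oc ∈ prj D x w := hQ.conj_prj hp hb
  have hogm : og ∈ prj D x w := hQ.conj_prj hp hd
  have hoem : oe ∈ prj D x w := hQ.conj_prj hb hd
  have hohm : oh ∈ prj D x w := hQ.conj_prj hp hoem
  have isq : ∀ {o}, o ∈ prj D x w → o * o = 1 := fun h => hQ.sq _ h.1.1
  have hvn : ∀ o ∈ prj D x w, o ≠ p → ¬Commute o v := fun o ho h k =>
    h (hQ.prj_width_one hx hw ho hp (hQ.trans_commute hx ho.1 hv.1 hp.1 k hv.2.symm))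
  have hvw : ¬Commute v w := fun k => hne (hQ.proj_unique hx hw hv.1 hp.1 hv.2.symm k hp.2)
  set f := tau x v w with hf
  have hfn : f ∈ nbr D x := hQ.tau_mem hx hw hv.1
  have hmem : ∀ o ∈ prj D x w, o ≠ p → o * v * o ∈ prj D x f := fun o ho h => by
    refine ⟨hQ.star_mem ho.1 hv.1, ?_⟩
    rw [hT.braid ho.1.1 hv.1.1 (hvn o ho h)]
    exact hQ.commute_star_tau hv.1 ho
  have sh : ∀ g ∈ [0, 1, 2, 1, 0], g < 3 := by simp
  -- classes of the three points
  have c1 : oc * p * oc = b := by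
    have hbp := hT.braid hp.1.1 hb.1.1 fun k => hpb (hQ.prj_width_one hx hw hp hb k)
    calc oc * p * oc = p * (b * p * b) * p := by simp only [hoc, mul_assoc, invol_cancel (isq hp)]
      _ = p * (p * b * p) * p := by rw [hbp]
      _ = b := invol_conj_invol (isq hp) b
  have e1 : Commute b (oc * v * oc) := by
    rw [← c1]; exact (commute_invol_conj (isq hocm)).2 hv.2
  have c2 : og * p * og = d := by
    have h := val_lab hQ hx hw hγ (u := ([0, 2, 0], 0)) (v := ([], 2)) (by norm_num) (by simp)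
      (by norm_num) (by simp) labW_org.2.2.1
    rw [val_cons, val_cons, val_cons, val_nil, val_nil] at h
    rw [← hp0, ← hd0] at h
    conv_rhs => rw [← h]
    simp only [hog, mul_assoc]
  have e2 : Commute d (og * v * og) := by
    rw [← c2]; exact (commute_invol_conj (isq hogm)).2 hv.2
  have c3 : oh * p * oh = oe := by
    have h := val_lab hQ hx hw hγ (u := ([0, 1, 2, 1, 0], 0)) (v := ([1], 2)) (by norm_num) sh
      (by norm_num) (by simp) labW_org.2.2.2.1
    rw [ve, val_cons, val_cons, val_cons, val_cons, val_cons, val_nil] at h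
    rw [← hp0, ← hb0, ← hd0] at h
    conv_rhs => rw [← h]
    simp only [hoh, hoe, mul_assoc]
  have e3 : Commute oe (oh * v * oh) := by
    rw [← c3]; exact (commute_invol_conj (isq hohm)).2 hv.2
  set eb := oc * v * oc with heb
  set ed := og * v * og with hed
  set ee := oh * v * oh with hee
  have mb := hmem oc hocm hocp
  have md := hmem og hogm hogp
  have me := hmem oh hohm hohp
  have hnbd : ¬Commute b ed := fun k =>
    hbd (hQ.prj_width_one hx hw hb hd (hQ.trans_commute hx hb.1 md.1 hd.1 k e2.symm))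
  have hned : ¬Commute oe ed := fun k =>
    hoed (hQ.prj_width_one hx hw hoem hd (hQ.trans_commute hx hoem.1 md.1 hd.1 k e2.symm))
  have hstar : eb * ed * eb = ee := by
    refine hQ.proj_unique hx hfn (hQ.star_mem mb.1 md.1) me.1 ?_ (hQ.conj_prj mb md).2 me.2
    refine hQ.trans_commute hx (hQ.star_mem mb.1 md.1) hoem.1 me.1
      (hQ.trans_commute hx (hQ.star_mem mb.1 md.1) (hQ.star_mem hb.1 md.1) hoem.1
        (hQ.star_congr hx hb.1 mb.1 md.1 e1.symm hnbd) ?_) e3
    exact (commute_invol_conj (isq hb)).2 e2.symm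
  have hU' : U = oc * oe * og := by
    rw [hU, hoc, hoe, hog]
    simp only [List.map_cons, List.map_nil, List.prod_cons, List.prod_nil, mul_one, mul_assoc]
    rfl
  have hrel : oe * ed * oe = eb := by
    have hinv : U⁻¹ = og * oe * oc := by
      refine inv_eq_of_mul_eq_one_right ?_
      rw [hU']
      simp only [mul_assoc, invol_cancel (isq hogm), invol_cancel (isq hoem), isq hocm]
    rw [hinv, hU'] at hfix
    rw [heb]
    conv_rhs => rw [← hfix]
    simp only [hed, mul_assoc, invol_cancel (isq hocm), isq hocm, mul_one]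
  have hnbe : ¬Commute ed eb := fun k =>
    hnbd (hQ.trans_commute hx hb.1 mb.1 md.1 e1 k.symm)
  rw [hT.braid mb.1.1 md.1.1 fun k => hnbe k.symm] at hstar
  rw [hT.braid hoem.1.1 md.1.1 hned] at hrel
  have hee' : oe = ee :=
    (invol_conj_invol (hQ.sq ed md.1.1) oe).symm.trans
      ((congrArg (fun z => ed * z * ed) hrel).trans hstar)
  rw [← c3, hee] at hee'
  exact hne (invol_conj_inj (isq hohm) hee').symm

theorem iso_u5 (hs : ∀ u ∈ D, ∀ a ∈ perp D u, (blk D u a).ncard = 4)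
    (hn : ∀ u ∈ D, ∀ v ∈ nbr D u, (prj D u v).ncard = 9)
    (hA : ∀ u ∈ D, (perp D u).ncard = 9 * 4) (hN : ∀ u ∈ D, (nbr D u).ncard = 4 * 4 * (9 - 1))
    {x : G} (hx : x ∈ D) : Nonempty (G ≃* DataU5.model.grp) := by
  obtain ⟨w, hwD, hxw⟩ := hQ.not_all_commute x hx
  have hw : w ∈ nbr D x := ⟨hwD, hxw⟩
  obtain ⟨p₁, p₂, h1, h2, hne⟩ := (Set.one_lt_ncard_iff (Set.toFinite _)).1
    (show 1 < (prj D x w).ncard by rw [hn x hx w hw]; norm_num)
  obtain ⟨p₃, h3, h3'⟩ : ∃ p ∈ prj D x w, p ∉ ({p₁, p₂, p₁ * p₂ * p₁} : Set G) := by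
    refine Set.exists_mem_notMem_of_ncard_lt_ncard ?_ (Set.toFinite _)
    have e1 := Set.ncard_insert_le p₁ ({p₂, p₁ * p₂ * p₁} : Set G)
    have e2 := Set.ncard_insert_le p₂ ({p₁ * p₂ * p₁} : Set G)
    rw [Set.ncard_singleton] at e2
    rw [hn x hx w hw]
    omega
  simp only [Set.mem_insert_iff, Set.mem_singleton_iff, not_or] at h3'
  obtain ⟨a₁, ha₁, hne₁, hc₁⟩ := hQ.thick x hx p₁ h1.1
  set γ := gens [p₁, p₂, p₃, a₁, x] with hγdef
  have hγ : ∀ g, g < 3 → γ g ∈ prj D x w := by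
    intro g hg
    interval_cases g
    · exact h1
    · exact h2
    · exact h3
  obtain ⟨heq, hinj⟩ := hQ.org_nine hx hw hγ hne h3'.1 h3'.2.1 h3'.2.2
  set u : List ℕ := [0, 1, 0, 1, 2, 1, 0, 2, 0] with hu
  set U := (u.map γ).prod with hU
  have hmemu : ∀ g ∈ u, g < 3 := by simp [hu]
  have hUinv : (u.reverse.map γ).prod = U⁻¹ := by
    rw [hU, inv_map_prod u fun g hg => hQ.sq _ (hγ g (hmemu g hg)).1.1]
  have hU0 : U * p₁ * U⁻¹ = p₁ := by
    have h := val_lab hQ hx hw hγ (u := (u, 0)) (v := ([], 0)) (by norm_num) hmemu (by norm_num)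
      (by simp) labW_org.2.2.2.2
    rw [show val γ (u, 0) = val γ (u ++ [], 0) by rw [List.append_nil], val_append, hUinv,
      val_nil] at h
    exact h
  have hUx : Commute U x := by
    rw [hU]
    refine Commute.list_prod_left _ _ fun z hz => ?_
    obtain ⟨g, hg, rfl⟩ := List.mem_map.1 hz
    exact (hγ g (hmemu g hg)).1.2.2.symm
  have hmap : ∀ v ∈ blk D x p₁, U * v * U⁻¹ ∈ blk D x p₁ := by
    intro v hv
    refine ⟨?_, by rw [← hU0]; exact hv.2.conj U⟩
    have := conj_mem_perp hQ.toTClass U hv.1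
    rwa [hUx.eq, mul_inv_cancel_right] at this
  have hmove : ∀ v ∈ blk D x p₁, v ≠ p₁ → U * v * U⁻¹ ≠ v := fun v hv hne' =>
    hQ.move_ne hx hw hγ hinj hv hne' rfl
  have hcinj : ∀ v v' : G, U * v * U⁻¹ = U * v' * U⁻¹ → v = v' :=
    fun v v' h => mul_left_cancel (mul_right_cancel h)
  have hb1 : a₁ ∈ blk D x p₁ := ⟨ha₁, hc₁⟩
  set a₂ := U * a₁ * U⁻¹ with ha₂def
  set a₃ := U⁻¹ * a₁ * U with ha₃def
  have hb2 : a₂ ∈ blk D x p₁ := hmap _ hb1
  have hUinv' : U * a₃ * U⁻¹ = a₁ := by rw [ha₃def]; simp [mul_assoc]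
  have hb3 : a₃ ∈ blk D x p₁ := by
    refine ⟨?_, ?_⟩
    · have := conj_mem_perp hQ.toTClass U⁻¹ ha₁
      rwa [inv_inv, hUx.inv_left.eq, inv_mul_cancel_right] at this
    · rw [← Commute.conj_iff U, hU0, hUinv']
      exact hc₁
  have hp2 : a₂ ≠ p₁ := fun e => hne₁ (hcinj _ _ (e.trans hU0.symm))
  have hp3 : a₃ ≠ p₁ := fun e => hne₁ (by rw [← hUinv', e, hU0])
  have h21 : a₂ ≠ a₁ := hmove _ hb1 hne₁
  have h31 : a₃ ≠ a₁ := fun e => hmove _ hb1 hne₁ (by conv_lhs => arg 1; arg 2; rw [← e]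
                                                      exact hUinv')
  have h32 : a₃ ≠ a₂ := by
    intro e
    have hcyc : U * a₂ * U⁻¹ = a₁ := e ▸ hUinv'
    obtain ⟨r, hr, hr'⟩ : ∃ r ∈ blk D x p₁, r ∉ ({p₁, a₁, a₂} : Set G) := by
      refine Set.exists_mem_notMem_of_ncard_lt_ncard ?_ (Set.toFinite _)
      have e1 := Set.ncard_insert_le p₁ ({a₁, a₂} : Set G)
      have e2 := Set.ncard_insert_le a₁ ({a₂} : Set G)
      rw [Set.ncard_singleton] at e2
      rw [hs x hx p₁ h1.1]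
      omega
    simp only [Set.mem_insert_iff, Set.mem_singleton_iff, not_or] at hr'
    have hset : blk D x p₁ = {p₁, a₁, a₂, r} := by
      refine (Set.eq_of_subset_of_ncard_le ?_ ?_ (Set.toFinite _)).symm
      · rintro z (rfl | rfl | rfl | rfl)
        exacts [⟨h1.1, Commute.refl _⟩, hb1, hb2, hr]
      · rw [hs x hx p₁ h1.1,
          Set.ncard_insert_of_notMem (by simp [hne₁.symm, hp2.symm, Ne.symm hr'.1]) (Set.toFinite _),
          Set.ncard_insert_of_notMem (by simp [h21.symm, Ne.symm hr'.2.1]) (Set.toFinite _),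
          Set.ncard_pair (Ne.symm hr'.2.2)]
    have hz := hmap r hr
    rw [hset] at hz
    rcases hz with h | h | h | h
    · exact hr'.1 (hcinj _ _ (h.trans hU0.symm))
    · exact hr'.2.2 (hcinj _ _ (h.trans hcyc.symm))
    · exact hr'.2.1 (hcinj _ _ h)
    · exact hmove r hr hr'.1 h
  have hset : ∀ z ∈ blk D x p₁, z = p₁ ∨ z = a₁ ∨ z = a₂ ∨ z = a₃ := by
    intro z hz
    have : ({p₁, a₁, a₂, a₃} : Set G) = blk D x p₁ := by
      refine Set.eq_of_subset_of_ncard_le ?_ ?_ (Set.toFinite _)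
      · rintro z (rfl | rfl | rfl | rfl)
        exacts [⟨h1.1, Commute.refl _⟩, hb1, hb2, hb3]
      · rw [hs x hx p₁ h1.1,
          Set.ncard_insert_of_notMem (by simp [hne₁.symm, hp2.symm, hp3.symm]) (Set.toFinite _),
          Set.ncard_insert_of_notMem (by simp [h21.symm, h31.symm]) (Set.toFinite _),
          Set.ncard_pair h32.symm]
    rw [← this] at hz
    simpa using hz
  have hl := hQ.line_prod hx h1.1 hb1.1 hb2.1 hb3.1 hb1.2 hb2.2 hb3.2
    ⟨hne₁.symm, hp2.symm, hp3.symm, h21.symm, h31.symm, h32.symm⟩ hset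
  have v2 : val γ (u, 3) = a₂ := by
    rw [show val γ (u, 3) = val γ (u ++ [], 3) by rw [List.append_nil], val_append, hUinv, val_nil]
    rfl
  have v3 : val γ (u.reverse, 3) = a₃ := by
    rw [show val γ (u.reverse, 3) = val γ (u.reverse ++ [], 3) by rw [List.append_nil], val_append,
      List.reverse_reverse, hUinv, val_nil]
    rfl
  have hC : Coords D x w DataU5.shape γ := by
    refine coords_of_gens hQ hx hw _ DataU5.shape_ok rfl hγ ?_ heq hinj (hn x hx w hw) ?_ ?_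
    · intro g hg hg'
      change 3 ≤ g at hg
      change g < 4 at hg'
      obtain rfl : g = 3 := by omega
      exact hb1
    · intro z hz
      rcases hset z hz with rfl | rfl | rfl | rfl
      · exact ⟨([], 0), by simp [DataU5.shape], val_nil γ 0⟩
      · exact ⟨([], 3), by simp [DataU5.shape], val_nil γ 3⟩
      · exact ⟨(u, 3), by simp [DataU5.shape, hu], v2⟩
      · exact ⟨(u.reverse, 3), by simp [DataU5.shape, hu], v3⟩
    · intro r hr
      simp only [DataU5.shape, List.mem_singleton] at hr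
      have e : r = [0, 4, 3] ++ full (u, 3) ++ full (u.reverse, 3) := hr.trans rfl
      rw [e]
      simp only [List.map_append, List.prod_append]
      show p₁ * (x * (a₁ * 1)) * val γ (u, 3) * val γ (u.reverse, 3) = 1
      rw [v2, v3]
      refine Eq.trans ?_ hl
      simp only [mul_one, ← mul_assoc]
      rw [h1.1.2.2.eq]
  exact nonempty_model_iso hQ _ DataU5.good hx hw hC ((hA x hx).trans (by rfl))
    ((hN x hx).trans (by rfl))

end GQ

end Cfsg.Agent.Fischer.Solv
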