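import Cfsg.Agent.Lib.Fischer.Solvable.Bound
import Cfsg.Agent.Lib.Presented.Coset

/-!
Generators of `⟨D_x⟩` with their classes, the product of a line, and the relators they satisfy.
-/

set_option autoImplicit false

namespace Cfsg.Agent.Fischer.Solv

open Cfsg Cfsg.Agent.Presented

/-- The word of a conjugate of a generator. -/
def full (u : List ℕ × ℕ) : List ℕ := u.1 ++ [u.2] ++ u.1.reverse

/-- The value of a conjugate of a generator. -/
def val {G : Type*} [Group G] (γ : ℕ → G) (u : List ℕ × ℕ) : G := ((full u).map γ).prod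

/-- The affine reflection on labels of the `3 ^ m` classes. -/
def op (m a b : ℕ) : ℕ :=
  if m = 1 then (6 - a - b) % 3 else (6 - a % 3 - b % 3) % 3 + 3 * ((6 - a / 3 - b / 3) % 3)

/-- The class of a word. -/
def clsW (m : ℕ) (cg : List ℕ) (u : List ℕ × ℕ) : ℕ :=
  u.1.foldr (fun g v => op m (cg.getD g 0) v) (cg.getD u.2 0)

/-- The relator of a pair of conjugates. -/
def pairRel (m : ℕ) (cg : List ℕ) (p : (List ℕ × ℕ) × (List ℕ × ℕ)) : List ℕ :=
  if clsW m cg p.1 = clsW m cg p.2 then full p.1 ++ full p.2 ++ (full p.1 ++ full p.2)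
  else full p.1 ++ full p.2 ++ (full p.1 ++ full p.2) ++ (full p.1 ++ full p.2)

variable {G : Type*} [Group G] {D : Set G}

theorem val_cons (γ : ℕ → G) (g : ℕ) (pre : List ℕ) (a : ℕ) :
    val γ (g :: pre, a) = γ g * val γ (pre, a) * γ g := by
  simp [val, full, mul_assoc]

theorem val_nil (γ : ℕ → G) (a : ℕ) : val γ ([], a) = γ a := by simp [val, full]

/-- Generators of `⟨D_x⟩`: `γ g` for `g < ng`, with classes `cg` among the representatives `o`. -/
structure GenData (D : Set G) (x : G) (m ng : ℕ) (cg : List ℕ) (γ : ℕ → G) (o : ℕ → G) : Prop where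
  mem : ∀ g, g < ng → γ g ∈ perp D x
  omem : ∀ l, l < 3 ^ m → o l ∈ perp D x
  cgr : ∀ g, g < ng → cg.getD g 0 < 3 ^ m
  gcls : ∀ g, g < ng → Commute (γ g) (o (cg.getD g 0))
  opr : ∀ g, g < ng → ∀ l, l < 3 ^ m → op m (cg.getD g 0) l < 3 ^ m
  hop : ∀ g, g < ng → ∀ l, l < 3 ^ m →
    Commute (γ g * o l * γ g) (o (op m (cg.getD g 0) l))
  oinj : ∀ l, l < 3 ^ m → ∀ l', l' < 3 ^ m → Commute (o l) (o l') → l = l'

namespace GenData

variable {x : G} {m ng : ℕ} {cg : List ℕ} {γ o : ℕ → G}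
  (hγ : GenData D x m ng cg γ o) (hQ : GQ D) (hx : x ∈ D)
include hγ hQ hx

theorem val_spec (u : List ℕ × ℕ) (h2 : u.2 < ng) (h1 : ∀ g ∈ u.1, g < ng) :
    val γ u ∈ perp D x ∧ clsW m cg u < 3 ^ m ∧ Commute (val γ u) (o (clsW m cg u)) := by
  obtain ⟨pre, a⟩ := u
  dsimp only at h1 h2
  induction pre with
  | nil => rw [val_nil]; exact ⟨hγ.mem a h2, hγ.cgr a h2, hγ.gcls a h2⟩
  | cons g pre ih =>
    obtain ⟨hm, hr, hc⟩ := ih fun k hk => h1 k (List.mem_cons_of_mem _ hk)
    have hg := h1 g List.mem_cons_self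
    have hG := hγ.mem g hg
    have e : clsW m cg (g :: pre, a) = op m (cg.getD g 0) (clsW m cg (pre, a)) := rfl
    rw [val_cons, e]
    exact ⟨hQ.star_mem hG hm, hγ.opr g hg _ hr,
      hQ.trans_commute hx (hQ.star_mem hG hm) (hQ.star_mem hG (hγ.omem _ hr))
        (hγ.omem _ (hγ.opr g hg _ hr)) ((commute_invol_conj (hQ.sq _ hG.1)).2 hc)
        (hγ.hop g hg _ hr)⟩

theorem commute_val_iff {u v : List ℕ × ℕ} (hu : u.2 < ng) (hu' : ∀ g ∈ u.1, g < ng)
    (hv : v.2 < ng) (hv' : ∀ g ∈ v.1, g < ng) :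
    Commute (val γ u) (val γ v) ↔ clsW m cg u = clsW m cg v := by
  obtain ⟨hm, hr, hc⟩ := hγ.val_spec hQ hx u hu hu'
  obtain ⟨hm', hr', hc'⟩ := hγ.val_spec hQ hx v hv hv'
  constructor
  · intro h
    refine hγ.oinj _ hr _ hr' ?_
    exact hQ.trans_commute hx (hγ.omem _ hr) hm (hγ.omem _ hr') hc.symm
      (hQ.trans_commute hx hm hm' (hγ.omem _ hr') h hc')
  · intro e
    exact hQ.trans_commute hx hm (hγ.omem _ hr) hm' hc (e ▸ hc'.symm)

theorem pairRel_eq_one {p : (List ℕ × ℕ) × (List ℕ × ℕ)} (hu : p.1.2 < ng)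
    (hu' : ∀ g ∈ p.1.1, g < ng) (hv : p.2.2 < ng) (hv' : ∀ g ∈ p.2.1, g < ng) :
    ((pairRel m cg p).map γ).prod = 1 := by
  obtain ⟨hm, -, -⟩ := hγ.val_spec hQ hx p.1 hu hu'
  obtain ⟨hm', -, -⟩ := hγ.val_spec hQ hx p.2 hv hv'
  have h2 := hγ.commute_val_iff hQ hx hu hu' hv hv'
  unfold pairRel
  split_ifs with he
  · simp only [List.map_append, List.prod_append]
    show val γ p.1 * val γ p.2 * (val γ p.1 * val γ p.2) = 1
    rw [← pow_two, (h2.2 he).mul_pow, pow_two, pow_two, hQ.sq _ hm.1, hQ.sq _ hm'.1, one_mul]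
  · have h3 := (hQ.ord _ hm.1 _ hm'.1).resolve_left fun h =>
      he (h2.1 (hQ.ts.commute_of_sq hm.1 hm'.1 h))
    simp only [List.map_append, List.prod_append]
    show val γ p.1 * val γ p.2 * (val γ p.1 * val γ p.2) * (val γ p.1 * val γ p.2) = 1
    rw [← pow_two, ← pow_succ]
    exact h3

end GenData

namespace GQ

variable [Finite G] (hQ : GQ D)
include hQ

/-- Two moves along a line of five members give the third. -/
theorem tau_comp {x q : G} (hx : x ∈ D) (hq : q ∈ nbr D x) {i j k l : G}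
    (hi : i ∈ perp D x) (hj : j ∈ perp D x) (hk : k ∈ perp D x) (hl : l ∈ perp D x)
    (hij : Commute i j) (hik : Commute i k) (hil : Commute i l)
    (h4 : ∀ b ∈ blk D x i, b = i ∨ b = j ∨ b = k ∨ b = l)
    (hiq : Commute i q) (hne : i ≠ k ∧ i ≠ l ∧ k ≠ l ∧ i ≠ j) :
    tau x k (tau x l q) = tau x j q := by
  obtain ⟨hne_ik, hne_il, hne_kl, hne_ij⟩ := hne
  have hn : ∀ b ∈ perp D x, Commute i b → b ≠ i → ¬Commute b q := fun b hb hib hne h =>
    hne (hQ.proj_unique hx hq hb hi hib.symm h hiq)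
  have hlq := hn l hl hil hne_il.symm
  set p := tau x l q with hp
  have hpn : p ∈ nbr D x := hQ.tau_mem hx hq hl
  have hip : Commute i p := commute_tau hi.2.2.symm hil hiq
  have hkp : ¬Commute k p := fun h =>
    hne_ik (hQ.proj_unique hx hpn hi hk hik hip h)
  set r := tau x k p with hr
  have hrn : r ∈ nbr D x := hQ.tau_mem hx hpn hk
  have hir : Commute i r := commute_tau hi.2.2.symm hik hip
  have hrq : Commute r q := by
    refine hQ.clique i hi.1 p ⟨hpn.1, fun e => hpn.2 (e ▸ hi.2.2), hip⟩ r hrn.1 q hq.1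
      hir.symm (hQ.tau_commute hx hpn hk hkp) hiq.symm (hQ.tau_commute hx hq hl hlq).symm
  have hrne : r ≠ q := by
    intro e
    have h1 : tau x k q = p := by rw [← e, hr, hQ.tau_tau hx hk]
    exact hne_kl (hQ.tau_injective hx hq hk hl (hn k hk hik hne_ik.symm) hlq h1)
  obtain ⟨b, hb, hbq, hrb⟩ := hQ.exists_tau hx hq hrn hrq hrne
  have hib : Commute i b := by
    obtain ⟨a, ⟨ha, har⟩, hba⟩ := hQ.exists_proj hx hrn hb
    have haq : Commute a q := by
      obtain ⟨e, ⟨he, heq⟩, hbe⟩ := hQ.exists_proj hx hq hb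
      have her : Commute e r := by
        rw [hrb]; exact commute_tau he.2.2.symm hbe.symm heq
      rw [hQ.proj_unique hx hrn ha he (hQ.trans_commute hx ha hb he hba.symm hbe) har her]
      exact heq
    by_cases hai : Commute i a
    · exact hQ.trans_commute hx hi ha hb hai hba.symm
    · exfalso
      exact hai (hQ.clique r hrn.1 q ⟨hq.1, hrne.symm, hrq⟩ i hi.1 a ha.1 hir hiq har haq)
  rcases h4 b ⟨hb, hib⟩ with rfl | rfl | rfl | rfl
  · exact absurd hiq hbq
  · exact hrb
  · exfalso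
    have h1 : p = q := by
      rw [← hQ.tau_tau hx hb p, ← hr, hrb, hQ.tau_tau hx hb]
    exact hQ.tau_ne hx hq hl hlq h1
  · exfalso
    rw [← hp] at hrb
    have h1 : tau x k p = p := hrb
    exact hQ.tau_ne hx hpn hk hkp h1

/-- The five members of a line multiply to one. -/
theorem line_prod {x a b c d : G} (hx : x ∈ D) (ha : a ∈ perp D x) (hb : b ∈ perp D x)
    (hc : c ∈ perp D x) (hd : d ∈ perp D x) (hab : Commute a b) (hac : Commute a c)
    (had : Commute a d) (hne : a ≠ b ∧ a ≠ c ∧ a ≠ d ∧ b ≠ c ∧ b ≠ d ∧ c ≠ d)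
    (h4 : ∀ e ∈ blk D x a, e = a ∨ e = b ∨ e = c ∨ e = d) : x * (a * b * c * d) = 1 := by
  obtain ⟨nab, nac, nad, nbc, nbd, ncd⟩ := hne
  have hbc := hQ.trans_commute hx hb ha hc hab.symm hac
  have hbd := hQ.trans_commute hx hb ha hd hab.symm had
  have hcd := hQ.trans_commute hx hc ha hd hac.symm had
  have key : ∀ i j k l : G, i ∈ perp D x → j ∈ perp D x → k ∈ perp D x → l ∈ perp D x →
      Commute i j → Commute i k → Commute i l →
      (∀ e ∈ blk D x i, e = i ∨ e = j ∨ e = k ∨ e = l) →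
      i ≠ k ∧ i ≠ l ∧ k ≠ l ∧ i ≠ j → ∀ q ∈ nbr D x, Commute i q →
      Commute (i * (x * (j * k * l))) q := by
    intro i j k l hi hj hk hl hij hik hil h hne q hq hiq
    refine hiq.mul_left ?_
    have h1 := hQ.tau_comp hx hq hi hj hk hl hij hik hil h hiq hne
    have h2 : tau x j (tau x k (tau x l q)) = q := by rw [h1, hQ.tau_tau hx hj]
    have ej : x * j = j * x := hj.2.2.eq
    have ek : x * k = k * x := hk.2.2.eq
    have el : x * l = l * x := hl.2.2.eq
    have hM : x * (j * (x * (k * (x * l)))) = x * (j * k * l) := by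
      rw [show x * (k * (x * l)) = x * k * x * l by simp only [mul_assoc], ek]
      simp only [mul_assoc, invol_cancel (hQ.sq x hx)]
    have hM' : (x * (j * k * l))⁻¹ = l * x * (k * x * (j * x)) := by
      rw [← hM]
      simp only [mul_inv_rev, hQ.ts.inv_eq hx, hQ.ts.inv_eq hj.1, hQ.ts.inv_eq hk.1,
        hQ.ts.inv_eq hl.1, mul_assoc]
    have h3 : x * (j * k * l) * q * (x * (j * k * l))⁻¹ = q := by
      rw [hM', ← hM]
      refine Eq.trans ?_ h2
      simp only [tau, mul_assoc]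
    exact mul_inv_eq_iff_eq_mul.1 h3
  have hall : ∀ q ∈ nbr D x, Commute (x * (a * b * c * d)) q := by
    intro q hq
    obtain ⟨e, ⟨he, heq⟩, hae⟩ := hQ.exists_proj hx hq ha
    have exc : x * a = a * x := ha.2.2.eq
    have exb : x * b = b * x := hb.2.2.eq
    have ex_c : x * c = c * x := hc.2.2.eq
    have exd : x * d = d * x := hd.2.2.eq
    rcases h4 e ⟨he, hae⟩ with rfl | rfl | rfl | rfl
    · rw [show x * (e * b * c * d) = e * (x * (b * c * d)) by
        simp only [← mul_assoc]; rw [exc]]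
      exact key e b c d ha hb hc hd hab hac had h4 ⟨nac, nad, ncd, nab⟩ q hq heq
    · rw [show x * (a * e * c * d) = e * (x * (a * c * d)) by
        simp only [← mul_assoc]; rw [← exb, mul_assoc x a e, hab.eq, ← mul_assoc]]
      refine key e a c d hb ha hc hd hab.symm hbc hbd (fun z hz => ?_) ⟨nbc, nbd, ncd, nab.symm⟩
        q hq heq
      rcases h4 z ⟨hz.1, hQ.trans_commute hx ha hb hz.1 hab hz.2⟩ with h | h | h | h <;> tauto
    · rw [show x * (a * b * e * d) = e * (x * (a * b * d)) by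
        simp only [← mul_assoc]
        rw [← ex_c, show x * a * b * e = x * (a * b * e) by simp only [mul_assoc],
          ((hac.symm.mul_right hbc.symm).eq).symm]
        simp only [mul_assoc]]
      refine key e a b d hc ha hb hd hac.symm hbc.symm hcd (fun z hz => ?_)
        ⟨nbc.symm, ncd, nbd, nac.symm⟩ q hq heq
      rcases h4 z ⟨hz.1, hQ.trans_commute hx ha hc hz.1 hac hz.2⟩ with h | h | h | h <;> tauto
    · rw [show x * (a * b * c * e) = e * (x * (a * b * c)) by
        rw [← mul_assoc e x, ← exd, mul_assoc x e,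
          (((had.symm.mul_right hbd.symm).mul_right hcd.symm).eq)]]
      refine key e a b c hd ha hb hc had.symm hbd.symm hcd.symm (fun z hz => ?_)
        ⟨nbd.symm, ncd.symm, nbc, nad.symm⟩ q hq heq
      rcases h4 z ⟨hz.1, hQ.trans_commute hx ha hd hz.1 had hz.2⟩ with h | h | h | h <;> tauto
  have hc' : x * (a * b * c * d) ∈ Subgroup.center G := by
    refine Subgroup.mem_center_iff.2 fun g => ?_
    have hg : g ∈ Subgroup.centralizer {x * (a * b * c * d)} := by
      have hle : Subgroup.closure (nbr D x) ≤ Subgroup.centralizer {x * (a * b * c * d)} :=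
        (Subgroup.closure_le _).2 fun q hq =>
          Subgroup.mem_centralizer_singleton_iff.2 (hall q hq).symm.eq
      exact hle (by rw [hQ.closure_nbr hx]; trivial)
    exact Subgroup.mem_centralizer_singleton_iff.1 hg
  rwa [hQ.center, Subgroup.mem_bot] at hc'

end GQ

end Cfsg.Agent.Fischer.Solv
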