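import Cfsg.Agent.Lib.Fischer.Solvable.Frame

/-!
Choices of generators of `⟨D_x⟩`: they satisfy the relators of a shape and the words of the shape
cover `perp D x`.
-/

set_option autoImplicit false

namespace Cfsg.Agent.Fischer.Solv

open Cfsg

/-- A shape: the number of classes is `3 ^ m`; the first `np` of the `ng` generators are origins of
classes, the others lie in class 0; `ow` gives the origins as words, `bw` the class 0 as words. -/
structure Shape where
  m : ℕ
  np : ℕ
  ng : ℕ
  cg : List ℕ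
  ow : List (List ℕ × ℕ)
  bw : List (List ℕ × ℕ)
  pairs : List ((List ℕ × ℕ) × (List ℕ × ℕ))
  extra : List (List ℕ)

namespace Shape

variable (S : Shape)

/-- The origin word of a class. -/
def org (l : ℕ) : List ℕ × ℕ := S.ow.getD l ([], 0)

/-- The word of the conjugation carrying class 0 to class `l`. -/
def pre (l : ℕ) : List ℕ := if l = 0 then [] else full (S.org (op S.m 0 l))

/-- Words for all members of `perp D x`, class by class. -/
def aw : List (List ℕ × ℕ) :=
  (List.range (3 ^ S.m)).flatMap fun l => S.bw.map fun b => (S.pre l ++ b.1, b.2)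

/-- Letters in range. -/
def okW (b : ℕ) (u : List ℕ × ℕ) : Bool := Nat.blt u.2 b && u.1.all fun g => Nat.blt g b

/-- The relators. -/
def rels : List (List ℕ) :=
  ((List.range (S.ng + 1)).map fun g => [g, g]) ++
    ((List.range S.ng).map fun g => [g, S.ng, g, S.ng]) ++ S.pairs.map (pairRel S.m S.cg) ++ S.extra

/-- Consistency of the data. -/
def ok : Bool :=
  Nat.blt 0 S.np && Nat.ble S.np S.ng &&
  ((List.range S.ng).all fun g => Nat.blt (S.cg.getD g 0) (3 ^ S.m) &&
    (Nat.blt g S.np || S.cg.getD g 0 == 0) &&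
    (List.range (3 ^ S.m)).all fun l => Nat.blt (op S.m (S.cg.getD g 0) l) (3 ^ S.m)) &&
  ((List.range S.np).all fun g => S.org (S.cg.getD g 0) == ([], g)) && (S.cg.getD 0 0 == 0) &&
  ((List.range (3 ^ S.m)).all fun l => okW S.np (S.org l) && clsW S.m S.cg (S.org l) == l &&
    (l == 0 || (Nat.blt (op S.m 0 l) (3 ^ S.m) &&
      clsW S.m S.cg (full (S.org (op S.m 0 l)) ++ (S.org l).1, (S.org l).2) == 0))) &&
  (S.pairs.all fun p => okW S.ng p.1 && okW S.ng p.2) && S.aw.all fun u => okW S.ng u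

end Shape

variable {G : Type*} [Group G] {D : Set G}

theorem inv_map_prod {γ : ℕ → G} : ∀ (w : List ℕ), (∀ g ∈ w, γ g * γ g = 1) →
    ((w.map γ).prod)⁻¹ = (w.reverse.map γ).prod := by
  intro w
  induction w with
  | nil => simp
  | cons g w ih =>
    intro h
    simp [ih (fun k hk => h k (List.mem_cons_of_mem _ hk)),
      inv_eq_self (h g List.mem_cons_self)]

theorem val_append (γ : ℕ → G) (u pre : List ℕ) (a : ℕ) :
    val γ (u ++ pre, a) = (u.map γ).prod * val γ (pre, a) * (u.reverse.map γ).prod := by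
  simp [val, full, mul_assoc]

theorem full_reverse (u : List ℕ × ℕ) : (full u).reverse = full u := by simp [full]

/-- Generators with relators, covering `perp D x`. -/
structure Coords (D : Set G) (x w : G) (S : Shape) (γ : ℕ → G) : Prop where
  sq : ∀ g, g < S.ng + 1 → γ g * γ g = 1
  genX : γ S.ng = x
  genA : ∀ g, g < S.ng → γ g ∈ perp D x
  rels : ∀ r ∈ S.rels, (r.map γ).prod = 1
  fix : ∀ g, g < S.np → Commute (γ g) w
  mem : ∀ j < S.aw.length, val γ (S.aw.getD j ([], 0)) ∈ perp D x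
  cls : ∀ i < S.aw.length, ∀ j < S.aw.length,
    Commute (val γ (S.aw.getD i ([], 0))) (val γ (S.aw.getD j ([], 0))) ↔
      clsW S.m S.cg (S.aw.getD i ([], 0)) = clsW S.m S.cg (S.aw.getD j ([], 0))
  cover : ∀ a ∈ perp D x, ∃ j < S.aw.length, val γ (S.aw.getD j ([], 0)) = a

theorem coords_of_gens [Finite G] (hQ : GQ D) {x w : G} (hx : x ∈ D) (hw : w ∈ nbr D x)
    (S : Shape) (hS : S.ok = true) {γ : ℕ → G} (hX : γ S.ng = x)
    (horg : ∀ g, g < S.np → γ g ∈ prj D x w)
    (hext : ∀ g, S.np ≤ g → g < S.ng → γ g ∈ blk D x (γ 0))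
    (heq : ∀ g, g < S.np → ∀ l, l < 3 ^ S.m → γ g * val γ (S.org l) * γ g =
      val γ (S.org (op S.m (S.cg.getD g 0) l)))
    (hinj : ∀ l, l < 3 ^ S.m → ∀ l', l' < 3 ^ S.m → val γ (S.org l) = val γ (S.org l') → l = l')
    (hn : (prj D x w).ncard = 3 ^ S.m)
    (hblk : ∀ b ∈ blk D x (γ 0), ∃ u ∈ S.bw, val γ u = b)
    (hextra : ∀ r ∈ S.extra, (r.map γ).prod = 1) : Coords D x w S γ := by
  simp only [Shape.ok, Shape.okW, Bool.and_eq_true, List.all_eq_true, List.mem_range, Nat.blt_eq,
    Nat.ble_eq, Bool.or_eq_true, beq_iff_eq] at hS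
  obtain ⟨⟨⟨⟨⟨⟨⟨hnp, hnpg⟩, hg⟩, horg0⟩, hcg0⟩, hl⟩, hp⟩, haw⟩ := hS
  have hawj : ∀ j < S.aw.length, S.aw.getD j ([], 0) ∈ S.aw := fun j hj => by
    rw [List.getD_eq_getElem _ _ hj]; exact List.getElem_mem hj
  have hT := hQ.ts
  have hgA : ∀ g, g < S.ng → γ g ∈ perp D x := fun g h => by
    by_cases h' : g < S.np
    · exact (horg g h').1
    · exact (hext g (not_lt.1 h') h).1
  have hval : ∀ u : List ℕ × ℕ, u.2 < S.np → (∀ g ∈ u.1, g < S.np) → val γ u ∈ prj D x w := by
    rintro ⟨p, a⟩ ha hpre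
    dsimp only at ha hpre
    induction p with
    | nil => rw [val_nil]; exact horg a ha
    | cons g p ih =>
      rw [val_cons]
      exact hQ.conj_prj (horg g (hpre g List.mem_cons_self))
        (ih fun k hk => hpre k (List.mem_cons_of_mem _ hk))
  have hoprj : ∀ l, l < 3 ^ S.m → val γ (S.org l) ∈ prj D x w := fun l h =>
    hval _ (hl l h).1.1.1 (hl l h).1.1.2
  have honto : ∀ e ∈ prj D x w, ∃ l, l < 3 ^ S.m ∧ val γ (S.org l) = e := by
    intro e he
    have hsub : (fun l => val γ (S.org l)) '' Set.Iio (3 ^ S.m) ⊆ prj D x w := by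
      rintro _ ⟨l, hl', rfl⟩; exact hoprj l hl'
    have hc : (prj D x w).ncard ≤ ((fun l => val γ (S.org l)) '' Set.Iio (3 ^ S.m)).ncard := by
      rw [Set.InjOn.ncard_image (s := Set.Iio (3 ^ S.m)) (f := fun l => val γ (S.org l))
        (fun a ha b hb h => hinj a ha b hb h), hn, ← Finset.coe_Iio,
        Set.ncard_coe_finset, Nat.card_Iio]
    rw [← Set.eq_of_subset_of_ncard_le hsub hc (Set.toFinite _)] at he
    obtain ⟨l, hl', rfl⟩ := he
    exact ⟨l, hl', rfl⟩
  have ho0 : val γ (S.org 0) = γ 0 := by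
    have := horg0 0 hnp
    rw [hcg0] at this
    rw [this, val_nil]
  have h30 : 0 < 3 ^ S.m := pow_pos (by norm_num) _
  have hoinj : ∀ l, l < 3 ^ S.m → ∀ l', l' < 3 ^ S.m →
      Commute (val γ (S.org l)) (val γ (S.org l')) → l = l' := fun l h l' h' hc =>
    hinj l h l' h' (hQ.prj_width_one hx hw (hoprj l h) (hoprj l' h') hc)
  have hγ : GenData D x S.m S.ng S.cg γ (fun l => val γ (S.org l)) := by
    refine ⟨hgA, fun l h => (hoprj l h).1, fun g h => (hg g h).1.1, fun g h => ?_,
      fun g h l h' => (hg g h).2 l h', fun g h l h' => ?_, hoinj⟩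
    · by_cases h' : g < S.np
      · skip
        rw [horg0 g h', val_nil]
      · skip
        rw [(hg g h).1.2.resolve_left h', ho0]
        exact (hext g (not_lt.1 h') h).2.symm
    · by_cases hg' : g < S.np
      · skip
        rw [heq g hg' l h']
      · skip
        rw [(hg g h).1.2.resolve_left hg']
        have he := heq 0 hnp l h'
        rw [hcg0] at he
        rw [← he]
        obtain ⟨hgm, hg0⟩ := hext g (not_lt.1 hg') h
        by_cases hl0 : l = 0
        · subst hl0
          rw [ho0, invol_conj_eq_of_commute (hQ.sq _ hgm.1) hg0.symm,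
            invol_conj_eq_of_commute (hQ.sq _ (hgA 0 (hnp.trans_le hnpg)).1) (Commute.refl _)]
        · exact hQ.star_congr hx (hgA 0 (hnp.trans_le hnpg)) hgm (hoprj l h').1 hg0.symm
            fun hc => hl0 (hoinj 0 h30 l h' (by rwa [ho0])).symm
  have hsq : ∀ g, g < S.ng + 1 → γ g * γ g = 1 := by
    intro g h
    by_cases h' : g < S.ng
    · exact hQ.sq _ (hgA g h').1
    · rw [show g = S.ng by omega, hX]; exact hQ.sq x hx
  refine ⟨hsq, hX, hgA, ?_, fun g h => (horg g h).2,
    fun j hj => (hγ.val_spec hQ hx _ (haw _ (hawj j hj)).1 (haw _ (hawj j hj)).2).1,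
    fun i hi j hj => hγ.commute_val_iff hQ hx (haw _ (hawj i hi)).1 (haw _ (hawj i hi)).2
      (haw _ (hawj j hj)).1 (haw _ (hawj j hj)).2, ?_⟩
  · intro r hr
    simp only [Shape.rels, List.mem_append, List.mem_map, List.mem_range] at hr
    rcases hr with ((⟨g, hg', rfl⟩ | ⟨g, hg', rfl⟩) | ⟨p, hp', rfl⟩) | hr
    · simp [hsq g hg']
    · have hc : Commute (γ g) x := (hgA g hg').2.2.symm
      simp only [List.map_cons, List.map_nil, List.prod_cons, List.prod_nil, mul_one, hX]
      rw [← mul_assoc x, ← hc.eq, mul_assoc (γ g) x x, hQ.sq x hx, mul_one, hsq g (by omega)]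
    · obtain ⟨⟨h1, h1'⟩, h2, h2'⟩ := hp p hp'
      exact hγ.pairRel_eq_one hQ hx h1 h1' h2 h2'
    · exact hextra r hr
  · intro a ha
    obtain ⟨e, he, hae⟩ := hQ.exists_proj hx hw ha
    obtain ⟨l, hl', rfl⟩ := honto e he
    suffices h : ∃ u ∈ S.aw, val γ u = a by
      obtain ⟨u, hu, rfl⟩ := h
      obtain ⟨j, hj, rfl⟩ := List.getElem_of_mem hu
      exact ⟨j, hj, by rw [List.getD_eq_getElem _ _ hj]⟩
    by_cases hl0 : l = 0
    · subst hl0
      rw [ho0] at hae
      obtain ⟨u, hu, hue⟩ := hblk a ⟨ha, hae.symm⟩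
      refine ⟨u, List.mem_flatMap.2 ⟨0, List.mem_range.2 h30,
        List.mem_map.2 ⟨u, hu, by simp [Shape.pre]⟩⟩, hue⟩
    · obtain ⟨-, h3⟩ := hl l hl'
      obtain ⟨hneg, h4⟩ := h3.resolve_left hl0
      obtain ⟨⟨⟨ha1, ha2⟩, -⟩, -⟩ := hl _ hneg
      obtain ⟨⟨⟨hb1, hb2⟩, -⟩, -⟩ := hl l hl'
      have hM := hoprj _ hneg
      set M := val γ (S.org (op S.m 0 l)) with hMdef
      have hfull : ∀ g ∈ full (S.org (op S.m 0 l)), g < S.np := by
        intro g hg'
        simp only [full, List.mem_append, List.mem_singleton, List.mem_reverse] at hg'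
        rcases hg' with (h | h) | h
        · exact ha2 g h
        · omega
        · exact ha2 g h
      have h5 : M * val γ (S.org l) * M = γ 0 := by
        have h6 : val γ (full (S.org (op S.m 0 l)) ++ (S.org l).1, (S.org l).2) =
            M * val γ (S.org l) * M := by
          rw [val_append, full_reverse]; rfl
        have hin : ∀ g ∈ full (S.org (op S.m 0 l)) ++ (S.org l).1, g < S.np := fun g hg' => by
          rcases List.mem_append.1 hg' with h | h
          · exact hfull g h
          · exact hb2 g h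
        have h7 := (hγ.val_spec hQ hx (_, (S.org l).2) (by dsimp only; omega)
          fun g hg' => (hin g hg').trans_le hnpg).2.2
        rw [h4, h6] at h7
        rw [ho0] at h7
        exact hQ.prj_width_one hx hw (hQ.conj_prj hM (hoprj l hl')) (horg 0 hnp) h7
      have hv : M * a * M ∈ blk D x (γ 0) := by
        refine ⟨hQ.star_mem hM.1 ha, ?_⟩
        rw [← h5]
        exact (commute_invol_conj (hQ.sq M hM.1.1)).2 hae.symm
      obtain ⟨u, hu, hue⟩ := hblk _ hv
      refine ⟨(S.pre l ++ u.1, u.2), List.mem_flatMap.2 ⟨l, List.mem_range.2 hl',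
        List.mem_map.2 ⟨u, hu, rfl⟩⟩, ?_⟩
      rw [val_append, Shape.pre, if_neg hl0, full_reverse]
      show M * val γ u * M = a
      rw [hue]
      exact invol_conj_invol (hQ.sq M hM.1.1) a

end Cfsg.Agent.Fischer.Solv
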