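import Cfsg.Agent.Lib.Fischer.Solvable.Gens

/-!
A class with the geometry of lines and generators of a given shape is determined: the group is the
group generated by the transvection permutations of a model.
-/

set_option autoImplicit false

namespace Cfsg.Agent.Fischer.Solv

open Cfsg Cfsg.Agent.Presented

/-- One bit. -/
def bit1 (n : ℕ) : ℕ := Nat.shiftLeft 1 n

/-- Join of masks. -/
def joinMask (f : ℕ → ℕ) (n : ℕ) : ℕ := (List.range n).foldr (fun i acc => Nat.lor (f i) acc) 0

theorem testBit_bit1 (n b : ℕ) : (bit1 n).testBit b = true ↔ n = b := by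
  simp [bit1, Nat.shiftLeft_eq', Nat.shiftLeft_eq, Nat.testBit_two_pow]

theorem testBit_joinMask (f : ℕ → ℕ) (n b : ℕ) :
    (joinMask f n).testBit b = true ↔ ∃ i < n, (f i).testBit b = true := by
  unfold joinMask
  suffices h : ∀ l : List ℕ, (l.foldr (fun i acc => Nat.lor (f i) acc) 0).testBit b = true ↔
      ∃ i ∈ l, (f i).testBit b = true by
    simpa using h (List.range n)
  intro l
  induction l with
  | nil => simp
  | cons a l ih =>
    rw [List.foldr_cons]
    show (f a ||| _).testBit b = true ↔ _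
    rw [Nat.testBit_or, Bool.or_eq_true, ih]
    simp

/-- A model: a permutation labelling, the commuting masks and the transvection table. -/
structure Model where
  S : Shape
  C : CosetCert
  V : ℕ
  psiT : NTree
  psiInvT : NTree
  adjT : NTree
  tauT : NTree
  witT : NTree

namespace Model

variable (M : Model)

/-- Number of members of `perp D x`. -/
def k : ℕ := M.S.aw.length

/-- Point of a label. -/
noncomputable def psi (v : ℕ) : ℕ := M.psiT.get 8 v

/-- Label of a point. -/
noncomputable def psiInv (v : ℕ) : ℕ := M.psiInvT.get 8 v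

/-- Commuting mask of a point. -/
noncomputable def adj (v : ℕ) : ℕ := M.adjT.get M.V v

/-- The transvection table. -/
noncomputable def tau (i j : ℕ) : ℕ := M.tauT.get 8 (i * M.V + j)

/-- The `j`th word. -/
def word (j : ℕ) : List ℕ × ℕ := M.S.aw.getD j ([], 0)

/-- The action of the `j`th member of `perp D x` on the far points. -/
noncomputable def move (j q : ℕ) : ℕ := M.C.path (full (M.word j)) q

/-- Predicted mask of `x`. -/
noncomputable def rowX : ℕ :=
  Nat.lor (bit1 (M.psi 0)) (joinMask (fun j => bit1 (M.psi (1 + j))) M.k)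

/-- Predicted mask of a member of `perp D x`. -/
noncomputable def rowA (j : ℕ) : ℕ :=
  Nat.lor (bit1 (M.psi 0))
    (Nat.lor (joinMask (fun i => bif Nat.beq (clsW M.S.m M.S.cg (M.word i)) (clsW M.S.m M.S.cg (M.word j))
        then bit1 (M.psi (1 + i)) else 0) M.k)
      (joinMask (fun q => bif Nat.beq (M.move j q) q then bit1 (M.psi (1 + M.k + q)) else 0) M.C.N))

/-- Predicted mask of a far point. -/
noncomputable def rowF (q : ℕ) : ℕ :=
  Nat.lor (bit1 (M.psi (1 + M.k + q)))
    (joinMask (fun j => force (M.move j q) fun r => bif Nat.beq r q then bit1 (M.psi (1 + j))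
      else bit1 (M.psi (1 + M.k + M.C.actOf r M.S.ng))) M.k)

/-- The predicted masks agree with the model. -/
noncomputable def rowOK (v : ℕ) : Bool :=
  force (M.psi v) fun p => Nat.blt p M.V && Nat.beq (M.psiInv p) v &&
    force (M.adj p) fun a =>
      bif Nat.beq v 0 then Nat.beq M.rowX a
      else bif Nat.blt v (1 + M.k) then Nat.beq (M.rowA (v - 1)) a
      else Nat.beq (M.rowF (v - (1 + M.k))) a

/-- The transvection table agrees with the third points. -/
noncomputable def pairOK (e : ℕ) : Bool :=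
  force (e / M.V) fun i => force (e % M.V) fun j => force (M.tauT.get 8 e) fun t =>
    force (M.adj i) fun ai => force (M.adj j) fun aj =>
      bif ai.testBit j then Nat.beq t j
      else force (M.witT.get 24 e) fun u =>
        force (u % 256) fun a => force (u / 256 % 256) fun b => force (u / 65536) fun c =>
          Nat.blt a M.V && Nat.blt b M.V && Nat.blt c M.V &&
          ai.testBit a && aj.testBit a && ai.testBit b && aj.testBit b &&
          ai.testBit c && aj.testBit c &&
          Nat.beq (Nat.land (M.adj a) (Nat.land (M.adj b) (M.adj c)))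
            (Nat.lor (bit1 i) (Nat.lor (bit1 j) (bit1 t)))

/-- Consistency of shape and certificate. -/
def relsOK : Bool :=
  (M.C.words.take M.C.nR).all (fun r => M.S.rels.contains r.reverse) &&
    (M.C.words.drop M.C.nR).all (fun r => (List.range M.S.np).any fun g => r == [g]) &&
    Nat.beq M.C.m (M.S.ng + 1) && M.S.aw.all (fun u => Shape.okW M.S.ng u) &&
    Nat.beq M.V (1 + M.k + M.C.N)

end Model

/-- The checks on a model. -/
structure Model.Good (M : Model) : Prop where
  edges : M.C.edgesOK = true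
  nodes : M.C.nodesOK = true
  shape : M.S.ok = true
  rels : M.relsOK = true
  rows : ∀ v < M.V, M.rowOK v = true
  pairs : ∀ e < M.V * M.V, M.pairOK e = true

/-- The group of the transvection permutations of a model. -/
def Model.grp (M : Model) : Subgroup (Equiv.Perm (Fin M.V)) :=
  Subgroup.closure {π | ∃ i : Fin M.V, ∀ j : Fin M.V, (π j : ℕ) = M.tau i j}

variable {G : Type*} [Group G] [Finite G] {D : Set G}

/-- The group is the model. -/
theorem nonempty_model_iso (hQ : GQ D) (M : Model) (hM : M.Good) {x w : G} (hx : x ∈ D)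
    (hw : w ∈ nbr D x) {γ : ℕ → G} (hC : Coords D x w M.S γ)
    (hA : (perp D x).ncard = M.k) (hN : (nbr D x).ncard = M.C.N) :
    Nonempty (G ≃* M.grp) := by
  classical
  have hT := hQ.ts
  have hrels := hM.rels
  simp only [Model.relsOK, Shape.okW, Bool.and_eq_true, List.all_eq_true, List.any_eq_true,
    List.contains_iff_mem, List.mem_range, beq_iff_eq, Nat.beq_eq, Nat.blt_eq] at hrels
  obtain ⟨⟨⟨⟨hR0, hK0⟩, hm⟩, haw⟩, hV⟩ := hrels
  have hsq : ∀ g, g < M.C.m → γ g * γ g = 1 := fun g hg => hC.sq g (hm ▸ hg)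
  set H := Subgroup.centralizer ({w} : Set G) with hH
  have hR : ∀ r ∈ M.C.words.take M.C.nR, wval γ r = 1 := by
    intro r hr
    rw [wval_eq_prod, ← List.map_reverse]
    exact hC.rels _ (hR0 r hr)
  have hK : ∀ r ∈ M.C.words.drop M.C.nR, wval γ r ∈ H := by
    intro r hr
    obtain ⟨g, hg, rfl⟩ := hK0 r hr
    rw [wval_eq_prod]
    simp only [List.map_cons, List.map_nil, List.reverse_cons, List.reverse_nil, List.nil_append,
      List.prod_cons, List.prod_nil, mul_one]
    exact Subgroup.mem_centralizer_singleton_iff.2 (hC.fix g hg).eq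
  obtain ⟨c, hc0, hc⟩ := CosetCert.exists_cosets (s := γ) hM.nodes H
  let E : ℕ → G := fun q => (c q).out * w * (c q).out⁻¹
  have hE : ∀ a : G, ∀ q, c q = QuotientGroup.mk a → E q = a * w * a⁻¹ := by
    intro a q h
    obtain ⟨h', hh'⟩ := QuotientGroup.mk_out_eq_mul H a
    show (c q).out * w * (c q).out⁻¹ = _
    rw [h, hh', mul_inv_rev, show a * h' * w * ((h' : G)⁻¹ * a⁻¹) = a * (h' * w * (h' : G)⁻¹) * a⁻¹ by
      simp only [mul_assoc], Subgroup.mem_centralizer_singleton_iff.1 h'.2, mul_inv_cancel_right]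
  have hact : ∀ g q, g < M.C.m → q < M.C.N → E (M.C.actOf q g) = γ g * E q * γ g := by
    intro g q hg hq
    have h1 := CosetCert.edge_good hM.edges hM.nodes H hsq hR hK hc0 hc _ q g hq hg M.C.rankOf_lt
    rw [← QuotientGroup.out_eq' (c q), MulAction.Quotient.smul_mk, smul_eq_mul] at h1
    rw [hE _ _ h1.symm, mul_inv_rev, inv_eq_self (hsq g hg)]
    simp only [E, mul_assoc]
  have hX : γ M.S.ng = x := hC.genX
  have hXm : M.S.ng < M.C.m := by omega
  have hgm : ∀ g, g < M.S.ng → g < M.C.m := fun g h => by omega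
  have hpath : ∀ l : List ℕ, (∀ g ∈ l, g < M.C.m) → ∀ q, q < M.C.N →
      E (M.C.path l q) = wval γ l * E q * (wval γ l)⁻¹ := by
    intro l
    induction l with
    | nil => intro _ q _; simp [wval]
    | cons g l ih =>
      intro hl q hq
      have hg := hl g List.mem_cons_self
      rw [CosetCert.path_cons, ih (fun k hk => hl k (List.mem_cons_of_mem _ hk)) _
        (CosetCert.actOf_lt hM.edges hM.nodes hq hg), hact g q hg hq, wval, mul_inv_rev,
        inv_eq_self (hsq g hg)]
      simp only [mul_assoc]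
  let A : ℕ → G := fun j => val γ (M.word j)
  have hAmem : ∀ j, j < M.k → A j ∈ perp D x := hC.mem
  have hword : ∀ j, j < M.k → ∀ g ∈ full (M.word j), g < M.C.m := by
    intro j hj g hg
    have hu : M.word j ∈ M.S.aw := by
      rw [Model.word, List.getD_eq_getElem _ _ hj]; exact List.getElem_mem hj
    obtain ⟨h2, h1⟩ := haw _ hu
    simp only [full, List.mem_append, List.mem_singleton, List.mem_reverse] at hg
    rcases hg with (h | h) | h
    · exact hgm g (h1 g h)
    · subst h; exact hgm _ h2
    · exact hgm g (h1 g h)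
  have hmove : ∀ j, j < M.k → ∀ q, q < M.C.N →
      M.move j q < M.C.N ∧ E (M.move j q) = A j * E q * A j := by
    intro j hj q hq
    refine ⟨CosetCert.path_lt hM.edges hM.nodes _ (hword j hj) hq, ?_⟩
    have e : wval γ (full (M.word j)) = A j := by
      rw [wval_eq_prod, ← List.map_reverse, full_reverse]; rfl
    show E (M.C.path _ q) = _
    rw [hpath _ (hword j hj) q hq, e, inv_eq_self (hQ.sq _ (hAmem j hj).1)]
  have hE0 : E 0 = w := by rw [hE 1 0 hc0]; simp
  have hN0 : 0 < M.C.N := by
    have := hM.nodes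
    simp only [CosetCert.nodesOK, Bool.and_eq_true, Nat.blt_eq] at this
    exact this.1.2
  have hfar : ∀ q, q < M.C.N → E q ∈ nbr D x := by
    intro q
    induction q using Nat.strong_induction_on with
    | _ q ih =>
      intro hq
      by_cases h0 : q = 0
      · rw [h0, hE0]; exact hw
      have hn := hM.nodes
      simp only [CosetCert.nodesOK, Bool.and_eq_true, Nat.blt_eq] at hn
      have h := checkBelow_spec hn.1.1 q hq
      simp only [CosetCert.checkNode, force_eq, Bool.or_eq_true, Bool.and_eq_true, Nat.blt_eq,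
        Nat.beq_eq] at h
      obtain ⟨⟨hp, he⟩, hq'⟩ := h.resolve_left h0
      set p := M.C.par.get M.C.pw q / M.C.m
      set g := M.C.par.get M.C.pw q % M.C.m
      have hmp : 0 < M.C.m := by omega
      have hgl : g < M.C.m := Nat.mod_lt _ hmp
      have hqe : q = M.C.actOf p g := by
        rw [CosetCert.actOf, show p * M.C.m + g = M.C.par.get M.C.pw q by
          rw [mul_comm]; exact Nat.div_add_mod _ _]
        exact hq'.symm
      rw [hqe, hact g p hgl (by omega)]
      obtain ⟨hpD, hpx⟩ := ih p hp (by omega)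
      have hgD : γ g ∈ D ∧ Commute (γ g) x := by
        by_cases hgX : g < M.S.ng
        · exact ⟨(hC.genA g hgX).1, (hC.genA g hgX).2.2.symm⟩
        · rw [show g = M.S.ng by omega, hX]; exact ⟨hx, Commute.refl x⟩
      refine ⟨hT.conj_mem hgD.1 hpD, fun h => hpx ?_⟩
      rw [← invol_conj_eq_of_commute (hQ.sq _ hgD.1) hgD.2] at h
      exact (commute_invol_conj (hQ.sq _ hgD.1)).1 h
  -- all far points
  let O : Set G := E '' Set.Iio M.C.N
  have hOtau : ∀ b ∈ perp D x, ∀ q ∈ O, tau x b q ∈ O := by
    rintro b hb _ ⟨q, hq, rfl⟩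
    obtain ⟨j, hj, rfl⟩ := hC.cover b hb
    obtain ⟨hr, he⟩ := hmove j hj q hq
    refine ⟨M.C.actOf (M.move j q) M.S.ng, CosetCert.actOf_lt hM.edges hM.nodes hr hXm, ?_⟩
    rw [hact M.S.ng _ hXm hr, he, hX]
    rfl
  have hOnbr : ∀ q ∈ nbr D x, ∀ e ∈ O, Commute q e → q ∈ O := by
    intro q hq e he hc'
    by_cases hqe : q = e
    · exact hqe ▸ he
    obtain ⟨e', he', rfl⟩ := he
    obtain ⟨b, hb, -, rfl⟩ := hQ.exists_tau hx (hfar e' he') hq hc' hqe
    exact hOtau b hb _ ⟨e', he', rfl⟩
  have hwO : w ∈ O := ⟨0, hN0, hE0⟩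
  have hdiff : ∀ q ∈ nbr D x, (∃ a ∈ prj D x w, ¬Commute a q) → q ∈ O := by
    rintro q hq ⟨a, ha, haq⟩
    by_cases hqw : Commute q w
    · exact hOnbr q hq w hwO hqw
    have haw' : a ∈ perp D w := ⟨ha.1.1, fun e => hw.2 (e ▸ ha.1.2.2), ha.2.symm⟩
    obtain ⟨e, ⟨he, heq⟩, hae⟩ := hQ.exists_proj hw.1 ⟨hq.1, fun h => hqw h.symm⟩ haw'
    have hen : e ∈ nbr D x := by
      refine ⟨he.1, fun hxe => ?_⟩
      have hea : e ∈ perp D x := ⟨he.1, fun h => hw.2 (h ▸ he.2.2.symm), hxe⟩
      rw [hQ.proj_unique hx hw hea ha.1 hae.symm he.2.2.symm ha.2] at heq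
      exact haq heq
    exact hOnbr q hq e (hOnbr e hen w hwO he.2.2.symm) heq.symm
  have hOall : ∀ q ∈ nbr D x, q ∈ O := by
    intro q hq
    by_contra hqO
    have hall : ∀ a ∈ prj D x w, Commute a q := fun a ha => by
      by_contra h; exact hqO (hdiff q hq ⟨a, ha, h⟩)
    obtain ⟨a, b, ha, hb, hab⟩ := (Set.one_lt_ncard_iff (Set.toFinite _)).1
      (show 1 < (prj D x w).ncard from lt_of_lt_of_le (by norm_num) (hQ.two_le_prj hx hw))
    obtain ⟨a', ha', hne, haa⟩ := hQ.thick x hx a ha.1
    have ha'q : ¬Commute a' q := fun h =>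
      hne (hQ.proj_unique hx hq ha.1 ha' haa (hall a ha) h).symm
    have hnab : ¬Commute a b := fun h => hab (hQ.prj_width_one hx hw ha hb h)
    have hn' : ¬Commute a' b := fun h => hnab (hQ.trans_commute hx ha.1 ha' hb.1 haa h)
    have hq' := hQ.tau_mem hx hq ha'
    have hnot : ¬Commute (a * b * a) (tau x a' q) := by
      intro h
      have hd := hQ.conj_prj ha hb
      have h1 : a' * b * a' ∈ perp D x := hQ.star_mem ha' hb.1
      have h2 : Commute (a' * b * a') (tau x a' q) := by
        unfold tau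
        have h2a : Commute (a' * b * a') x := h1.2.2.symm
        have h2b : Commute (a' * b * a') (a' * q * a') :=
          (commute_invol_conj (hQ.sq a' ha'.1)).2 (hall b hb)
        exact (h2a.mul_right h2b).mul_right h2a
      have h3 := hQ.proj_unique hx hq' h1 hd.1
        (hQ.star_congr hx ha.1 ha' hb.1 haa.symm hnab) h2 h
      rw [hT.braid ha'.1 hb.1.1 hn', hT.braid ha.1.1 hb.1.1 hnab] at h3
      exact hne (invol_conj_inj (hQ.sq b hb.1.1) h3)
    have h4 := hdiff _ hq' ⟨_, hQ.conj_prj ha hb, hnot⟩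
    have h5 := hOtau a' ha' _ h4
    rw [hQ.tau_tau hx ha'] at h5
    exact hqO h5
  have hOsub : O ⊆ nbr D x := by rintro _ ⟨q, hq, rfl⟩; exact hfar q hq
  have hOeq : O = nbr D x := Set.Subset.antisymm hOsub hOall
  have hEinj : Set.InjOn E (Set.Iio M.C.N) := by
    refine Set.injOn_of_ncard_image_eq ?_ (Set.toFinite _)
    change O.ncard = _
    rw [hOeq, hN, ← Finset.coe_Iio, Set.ncard_coe_finset, Nat.card_Iio]
  have hAinj : Set.InjOn A (Set.Iio M.k) := by
    refine Set.injOn_of_ncard_image_eq ?_ (Set.toFinite _)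
    rw [show A '' Set.Iio M.k = perp D x from Set.Subset.antisymm
      (by rintro _ ⟨j, hj, rfl⟩; exact hAmem j hj)
      (fun a ha => by obtain ⟨j, hj, rfl⟩ := hC.cover a ha; exact ⟨j, hj, rfl⟩), hA,
      ← Finset.coe_Iio, Set.ncard_coe_finset, Nat.card_Iio]
  -- the labels
  let elt : ℕ → G := fun v => if v = 0 then x else if v < 1 + M.k then A (v - 1) else E (v - (1 + M.k))
  have elt0 : elt 0 = x := if_pos rfl
  have eltA : ∀ j, j < M.k → elt (1 + j) = A j := fun j hj => by
    simp only [elt, if_neg (show 1 + j ≠ 0 by omega), if_pos (show 1 + j < 1 + M.k by omega),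
      Nat.add_sub_cancel_left]
  have eltF : ∀ q, elt (1 + M.k + q) = E q := fun q => by
    simp only [elt, if_neg (show 1 + M.k + q ≠ 0 by omega),
      if_neg (show ¬1 + M.k + q < 1 + M.k by omega), Nat.add_sub_cancel_left]
  have hcases : ∀ v, v < M.V → v = 0 ∨ (∃ j, j < M.k ∧ v = 1 + j) ∨
      ∃ q, q < M.C.N ∧ v = 1 + M.k + q := by
    intro v hv
    by_cases h0 : v = 0
    · exact Or.inl h0
    by_cases h1 : v < 1 + M.k
    · exact Or.inr (Or.inl ⟨v - 1, by omega, by omega⟩)
    · exact Or.inr (Or.inr ⟨v - (1 + M.k), by omega, by omega⟩)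
  have heltD : ∀ v, v < M.V → elt v ∈ D := by
    intro v hv
    rcases hcases v hv with rfl | ⟨j, hj, rfl⟩ | ⟨q, hq, rfl⟩
    · rw [elt0]; exact hx
    · rw [eltA j hj]; exact (hAmem j hj).1
    · rw [eltF]; exact (hfar q hq).1
  have honto : ∀ d ∈ D, ∃ v, v < M.V ∧ elt v = d := by
    intro d hd
    by_cases hxd : Commute x d
    · by_cases hdx : d = x
      · exact ⟨0, by omega, by rw [elt0, hdx]⟩
      · obtain ⟨j, hj, rfl⟩ := hC.cover d ⟨hd, hdx, hxd⟩
        exact ⟨1 + j, by simp only [Model.k] at hV ⊢; omega, eltA j hj⟩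
    · obtain ⟨q, hq, rfl⟩ := hOall d ⟨hd, hxd⟩
      exact ⟨1 + M.k + q, by simp only [Set.mem_Iio] at hq; omega, eltF q⟩
  have heltinj : ∀ u, u < M.V → ∀ v, v < M.V → elt u = elt v → u = v := by
    intro u hu v hv h
    rcases hcases u hu with rfl | ⟨j, hj, rfl⟩ | ⟨q, hq, rfl⟩ <;>
      rcases hcases v hv with rfl | ⟨i, hi, rfl⟩ | ⟨r, hr, rfl⟩
    · rfl
    · rw [elt0, eltA i hi] at h; exact absurd h.symm (hAmem i hi).2.1
    · rw [elt0, eltF] at h; exact absurd (Commute.refl x) (h ▸ (hfar r hr).2)
    · rw [elt0, eltA j hj] at h; exact absurd h (hAmem j hj).2.1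
    · rw [eltA j hj, eltA i hi] at h; rw [hAinj hj hi h]
    · rw [eltF, eltA j hj] at h; exact absurd (hAmem j hj).2.2 (h ▸ (hfar r hr).2)
    · rw [elt0, eltF] at h; exact absurd (Commute.refl x) (h.symm ▸ (hfar q hq).2)
    · rw [eltF, eltA i hi] at h; exact absurd (hAmem i hi).2.2 (h.symm ▸ (hfar q hq).2)
    · rw [eltF, eltF] at h; rw [hEinj hq hr h]
  have hrow : ∀ v, v < M.V → M.psi v < M.V ∧ M.psiInv (M.psi v) = v ∧
      (if v = 0 then M.rowX = M.adj (M.psi v) else if v < 1 + M.k
        then M.rowA (v - 1) = M.adj (M.psi v)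
        else M.rowF (v - (1 + M.k)) = M.adj (M.psi v)) := by
    intro v hv
    have h := hM.rows v hv
    simp only [Model.rowOK, force_eq, Bool.and_eq_true, Nat.blt_eq, Nat.beq_eq] at h
    refine ⟨h.1.1, h.1.2, ?_⟩
    obtain ⟨-, h⟩ := h
    split_ifs with h0 h1
    · rw [show Nat.beq v 0 = true by simpa [Nat.beq_eq] using h0, cond_true, Nat.beq_eq] at h
      exact h
    · rw [show Nat.beq v 0 = false by simpa [Bool.eq_false_iff, Nat.beq_eq] using h0, cond_false,
        show Nat.blt v (1 + M.k) = true by simpa [Nat.blt_eq] using h1, cond_true, Nat.beq_eq] at h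
      exact h
    · rw [show Nat.beq v 0 = false by simpa [Bool.eq_false_iff, Nat.beq_eq] using h0, cond_false,
        show Nat.blt v (1 + M.k) = false by simpa [Bool.eq_false_iff, Nat.blt_eq] using h1,
        cond_false, Nat.beq_eq] at h
      exact h
  have hpsi : ∀ u, u < M.V → ∀ v, v < M.V → M.psi u = M.psi v → u = v := fun u hu v hv h => by
    rw [← (hrow u hu).2.1, h, (hrow v hv).2.1]
  have hbit : ∀ u, u < M.V → ∀ v, v < M.V →
      ((M.adj (M.psi u)).testBit (M.psi v) = true ↔ Commute (elt u) (elt v)) := by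
    intro u hu v hv
    have hb : ∀ z, z < M.V → ((bit1 (M.psi z)).testBit (M.psi v) = true ↔ z = v) := fun z hz =>
      (testBit_bit1 _ _).trans ⟨hpsi z hz v hv, fun e => by rw [e]⟩
    have h3 := (hrow u hu).2.2
    rcases hcases u hu with rfl | ⟨j, hj, rfl⟩ | ⟨q, hq, rfl⟩
    · rw [if_pos rfl] at h3
      rw [← h3, Model.rowX, show Nat.lor (bit1 (M.psi 0)) _ = bit1 (M.psi 0) ||| _ from rfl,
        Nat.testBit_or, Bool.or_eq_true, hb 0 hu, testBit_joinMask, elt0]
      constructor
      · rintro (rfl | ⟨i, hi, h⟩)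
        · rw [elt0]
        · rw [(hb (1 + i) (by omega))] at h
          rw [← h, eltA i hi]; exact (hAmem i hi).2.2
      · intro hc'
        rcases hcases v hv with rfl | ⟨i, hi, rfl⟩ | ⟨r, hr, rfl⟩
        · exact Or.inl rfl
        · exact Or.inr ⟨i, hi, (hb (1 + i) hv).2 rfl⟩
        · rw [eltF] at hc'; exact absurd hc' (hfar r hr).2
    · rw [if_neg (by omega), if_pos (by omega), Nat.add_sub_cancel_left] at h3
      rw [← h3, Model.rowA, show ∀ a b c : ℕ, Nat.lor a (Nat.lor b c) = a ||| (b ||| c) from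
        fun _ _ _ => rfl, Nat.testBit_or, Nat.testBit_or, Bool.or_eq_true, Bool.or_eq_true,
        hb 0 (by omega), testBit_joinMask, testBit_joinMask, eltA j hj]
      constructor
      · rintro (rfl | ⟨i, hi, h⟩ | ⟨r, hr, h⟩)
        · rw [elt0]; exact (hAmem j hj).2.2.symm
        · by_cases he : clsW M.S.m M.S.cg (M.word i) = clsW M.S.m M.S.cg (M.word j)
          · rw [show Nat.beq (clsW M.S.m M.S.cg (M.word i)) (clsW M.S.m M.S.cg (M.word j)) = true
              from Nat.beq_eq ▸ he, cond_true, hb (1 + i) (by omega)] at h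
            rw [← h, eltA i hi]
            exact (hC.cls j hj i hi).2 he.symm
          · rw [show Nat.beq (clsW M.S.m M.S.cg (M.word i)) (clsW M.S.m M.S.cg (M.word j)) = false
              by simpa [Bool.eq_false_iff, Nat.beq_eq] using he, cond_false] at h
            simp at h
        · by_cases he : M.move j r = r
          · rw [show Nat.beq (M.move j r) r = true from Nat.beq_eq ▸ he, cond_true,
              hb (1 + M.k + r) (by omega)] at h
            rw [← h, eltF]
            have h' := (hmove j hj r hr).2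
            rw [he] at h'
            calc A j * E r = A j * (A j * E r * A j) := by rw [← h']
              _ = E r * A j := by simp only [mul_assoc, invol_cancel (hQ.sq _ (hAmem j hj).1)]
          · rw [show Nat.beq (M.move j r) r = false
              by simpa [Bool.eq_false_iff, Nat.beq_eq] using he, cond_false] at h
            simp at h
      · intro hc'
        rcases hcases v hv with rfl | ⟨i, hi, rfl⟩ | ⟨r, hr, rfl⟩
        · exact Or.inl rfl
        · rw [eltA i hi] at hc'
          refine Or.inr (Or.inl ⟨i, hi, ?_⟩)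
          rw [show Nat.beq (clsW M.S.m M.S.cg (M.word i)) (clsW M.S.m M.S.cg (M.word j)) = true
            from Nat.beq_eq ▸ ((hC.cls j hj i hi).1 hc').symm, cond_true]
          exact (hb (1 + i) hv).2 rfl
        · rw [eltF] at hc'
          refine Or.inr (Or.inr ⟨r, hr, ?_⟩)
          have he : M.move j r = r := hEinj (hmove j hj r hr).1 hr (by
            rw [(hmove j hj r hr).2, invol_conj_eq_of_commute (hQ.sq _ (hAmem j hj).1) hc'])
          rw [show Nat.beq (M.move j r) r = true from Nat.beq_eq ▸ he, cond_true]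
          exact (hb (1 + M.k + r) hv).2 rfl
    · rw [if_neg (by omega), if_neg (by omega), Nat.add_sub_cancel_left] at h3
      rw [← h3, Model.rowF, show ∀ a b : ℕ, Nat.lor a b = a ||| b from fun _ _ => rfl,
        Nat.testBit_or, Bool.or_eq_true, hb (1 + M.k + q) (by omega), testBit_joinMask, eltF]
      have hfq := hfar q hq
      have htau : ∀ j, j < M.k → E (M.C.actOf (M.move j q) M.S.ng) = tau x (A j) (E q) := by
        intro j hj
        rw [hact M.S.ng _ hXm (hmove j hj q hq).1, (hmove j hj q hq).2, hX]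
        rfl
      have hfix : ∀ j, j < M.k → (M.move j q = q ↔ Commute (A j) (E q)) := by
        intro j hj
        obtain ⟨hr, he⟩ := hmove j hj q hq
        constructor
        · intro h
          rw [h] at he
          calc A j * E q = A j * (A j * E q * A j) := by rw [← he]
            _ = E q * A j := by simp only [mul_assoc, invol_cancel (hQ.sq _ (hAmem j hj).1)]
        · intro h
          exact hEinj hr hq (by rw [he, invol_conj_eq_of_commute (hQ.sq _ (hAmem j hj).1) h])
      constructor
      · rintro (rfl | ⟨j, hj, h⟩)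
        · rw [eltF]
        · rw [force_eq] at h
          have hlt := CosetCert.actOf_lt hM.edges hM.nodes (hmove j hj q hq).1 hXm
          by_cases he : M.move j q = q
          · rw [show Nat.beq (M.move j q) q = true from Nat.beq_eq ▸ he, cond_true,
              hb (1 + j) (by omega)] at h
            rw [← h, eltA j hj]
            exact ((hfix j hj).1 he).symm
          · rw [show Nat.beq (M.move j q) q = false
              by simpa [Bool.eq_false_iff, Nat.beq_eq] using he, cond_false,
              hb (1 + M.k + _) (by omega)] at h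
            rw [← h, eltF, htau j hj]
            exact (hQ.tau_commute hx hfq (hAmem j hj) fun k => he ((hfix j hj).2 k)).symm
      · intro hc'
        rcases hcases v hv with rfl | ⟨i, hi, rfl⟩ | ⟨r, hr, rfl⟩
        · rw [elt0] at hc'; exact absurd hc'.symm hfq.2
        · rw [eltA i hi] at hc'
          refine Or.inr ⟨i, hi, ?_⟩
          rw [force_eq, show Nat.beq (M.move i q) q = true from
            Nat.beq_eq ▸ (hfix i hi).2 hc'.symm, cond_true]
          exact (hb (1 + i) hv).2 rfl
        · by_cases hqr : r = q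
          · exact Or.inl (by rw [hqr])
          rw [eltF] at hc'
          obtain ⟨b, hb', hbw, hbe⟩ := hQ.exists_tau hx hfq (hfar r hr) hc'.symm
            fun e => hqr (hEinj hr hq e)
          obtain ⟨j, hj, rfl⟩ := hC.cover b hb'
          refine Or.inr ⟨j, hj, ?_⟩
          rw [force_eq, show Nat.beq (M.move j q) q = false by
            simpa [Bool.eq_false_iff, Nat.beq_eq] using fun h => hbw ((hfix j hj).1 h), cond_false]
          refine (hb (1 + M.k + _) ?_).2 ?_
          · have hlt := CosetCert.actOf_lt hM.edges hM.nodes (hmove j hj q hq).1 hXm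
            omega
          · rw [hEinj (CosetCert.actOf_lt hM.edges hM.nodes (hmove j hj q hq).1 hXm) hr
              ((htau j hj).trans hbe.symm)]
  -- the bijection
  let φ : Fin M.V → D := fun p => ⟨elt (M.psiInv p % M.V), heltD _ (Nat.mod_lt _ (by omega))⟩
  have hpsurj : ∀ p, p < M.V → ∃ v, v < M.V ∧ M.psi v = p := by
    intro p hp
    have h : ((Finset.range M.V).image M.psi) = Finset.range M.V := by
      refine Finset.eq_of_subset_of_card_le ?_ ?_
      · intro z hz
        obtain ⟨v, hv, rfl⟩ := Finset.mem_image.1 hz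
        exact Finset.mem_range.2 (hrow v (Finset.mem_range.1 hv)).1
      · rw [Finset.card_image_of_injOn fun a ha b hb => hpsi a (Finset.mem_range.1 ha) b
          (Finset.mem_range.1 hb)]
    have hp' : p ∈ (Finset.range M.V).image M.psi := by rw [h]; exact Finset.mem_range.2 hp
    obtain ⟨v, hv, rfl⟩ := Finset.mem_image.1 hp'
    exact ⟨v, Finset.mem_range.1 hv, rfl⟩
  have hφ : ∀ v, (hv : v < M.V) → (φ ⟨M.psi v, (hrow v hv).1⟩ : G) = elt v := fun v hv => by
    show elt (M.psiInv (M.psi v) % M.V) = _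
    rw [(hrow v hv).2.1, Nat.mod_eq_of_lt hv]
  have hφc : ∀ p p' : Fin M.V,
      ((M.adj p).testBit p' = true ↔ Commute (φ p : G) (φ p')) := by
    intro p p'
    obtain ⟨u, hu, hpu⟩ := hpsurj p p.2
    obtain ⟨v, hv, hpv⟩ := hpsurj p' p'.2
    have e1 : p = ⟨M.psi u, (hrow u hu).1⟩ := Fin.ext hpu.symm
    have e2 : p' = ⟨M.psi v, (hrow v hv).1⟩ := Fin.ext hpv.symm
    rw [e1, e2, hφ u hu, hφ v hv]
    exact hbit u hu v hv
  have hφbij : Function.Bijective φ := by
    constructor
    · intro p p' h
      obtain ⟨u, hu, hpu⟩ := hpsurj p p.2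
      obtain ⟨v, hv, hpv⟩ := hpsurj p' p'.2
      have e1 : p = ⟨M.psi u, (hrow u hu).1⟩ := Fin.ext hpu.symm
      have e2 : p' = ⟨M.psi v, (hrow v hv).1⟩ := Fin.ext hpv.symm
      rw [e1, e2] at h ⊢
      have h' := congrArg (fun d : D => (d : G)) h
      rw [hφ u hu, hφ v hv] at h'
      exact Fin.ext (congrArg M.psi (heltinj u hu v hv h'))
    · rintro ⟨d, hd⟩
      obtain ⟨v, hv, rfl⟩ := honto d hd
      exact ⟨⟨M.psi v, (hrow v hv).1⟩, Subtype.ext (hφ v hv)⟩
  let e : Fin M.V ≃ D := Equiv.ofBijective φ hφbij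
  let conjD : G →* Equiv.Perm D :=
    { toFun := fun g =>
        { toFun := fun d => ⟨g * d * g⁻¹, hQ.toTClass.conj g d d.2⟩
          invFun := fun d => ⟨g⁻¹ * d * g, by simpa using hQ.toTClass.conj g⁻¹ d d.2⟩
          left_inv := fun d => Subtype.ext (by simp [mul_assoc])
          right_inv := fun d => Subtype.ext (by simp [mul_assoc]) }
      map_one' := Equiv.ext fun d => Subtype.ext (by simp)
      map_mul' := fun g h => Equiv.ext fun d => Subtype.ext (by simp [mul_assoc]) }
  let ρ : G →* Equiv.Perm (Fin M.V) := e.symm.permCongrHom.toMonoidHom.comp conjD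
  have hρ : ∀ g j, ρ g j = e.symm (conjD g (e j)) := fun g j => rfl
  have hρinj : Function.Injective ρ := by
    refine e.symm.permCongrHom.injective.comp ?_
    rw [injective_iff_map_eq_one]
    intro g hg
    have hcen : g ∈ Subgroup.center G := by
      refine eq_top_of_mem_center hQ.toTClass fun d hd => ?_
      have := congrArg (fun π : Equiv.Perm D => ((π ⟨d, hd⟩ : D) : G)) hg
      exact (mul_inv_eq_iff_eq_mul.1 this).symm
    rwa [hQ.center, Subgroup.mem_bot] at hcen
  have htau : ∀ i j : Fin M.V, (ρ (φ i : G) j : ℕ) = M.tau i j := by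
    intro i j
    set z := ρ (φ i : G) j with hz
    have hzv : (φ z : G) = (φ i : G) * φ j * φ i := by
      have h0 : φ z = conjD (φ i : G) (φ j) := by
        rw [hz, hρ]
        exact e.apply_symm_apply _
      rw [h0]
      show (φ i : G) * φ j * (φ i : G)⁻¹ = _
      rw [hT.inv_eq (φ i).2]
    have he' : (i : ℕ) * M.V + j < M.V * M.V :=
      calc (i : ℕ) * M.V + j < (i + 1) * M.V := by rw [Nat.succ_mul]; omega
        _ ≤ M.V * M.V := Nat.mul_le_mul_right _ i.2
    have h := hM.pairs _ he'
    have hdiv : ((i : ℕ) * M.V + j) / M.V = i ∧ ((i : ℕ) * M.V + j) % M.V = j := by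
      constructor
      · rw [mul_comm, Nat.mul_add_div (by omega), Nat.div_eq_of_lt j.2, add_zero]
      · rw [mul_comm, Nat.mul_add_mod, Nat.mod_eq_of_lt j.2]
    simp only [Model.pairOK, force_eq, hdiv.1, hdiv.2] at h
    show (z : ℕ) = M.tauT.get 8 (i * M.V + j)
    set t := M.tauT.get 8 ((i : ℕ) * M.V + j)
    by_cases hij : (M.adj i).testBit j = true
    · rw [hij, cond_true, Nat.beq_eq] at h
      have hzj : z = j := hφbij.1 (Subtype.ext (by
        rw [hzv, invol_conj_eq_of_commute (hQ.sq _ (φ i).2) ((hφc i j).1 hij)]))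
      rw [hzj, h]
    · have hn : ¬Commute (φ i : G) (φ j) := fun k => hij ((hφc i j).2 k)
      rw [show (M.adj i).testBit j = false by simpa using hij, cond_false] at h
      simp only [Bool.and_eq_true, Nat.blt_eq, Nat.beq_eq] at h
      obtain ⟨⟨⟨⟨⟨⟨⟨⟨⟨ha, hb⟩, hc'⟩, hia⟩, hja⟩, hib⟩, hjb⟩, hic⟩, hjc⟩, hand⟩ := h
      have hzbit : ∀ a, (ha : a < M.V) → (M.adj i).testBit a = true → (M.adj j).testBit a = true →
          (M.adj a).testBit z = true := by
        intro a ha hia hja
        rw [show a = ((⟨a, ha⟩ : Fin M.V) : ℕ) from rfl, hφc]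
        rw [show a = ((⟨a, ha⟩ : Fin M.V) : ℕ) from rfl, hφc] at hia hja
        rw [hzv]
        exact ((hia.symm.mul_right hja.symm).mul_right hia.symm)
      have h1 := congrArg (fun u : ℕ => u.testBit z) hand
      rw [show ∀ a b c : ℕ, Nat.land a (Nat.land b c) = a &&& (b &&& c) from fun _ _ _ => rfl,
        show ∀ a b c : ℕ, Nat.lor a (Nat.lor b c) = a ||| (b ||| c) from fun _ _ _ => rfl] at h1
      simp only [Nat.testBit_and, Nat.testBit_or, hzbit _ ha hia hja, hzbit _ hb hib hjb,
        hzbit _ hc' hic hjc, Bool.and_self] at h1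
      have h2 : (bit1 (i : ℕ)).testBit z = true ∨ (bit1 (j : ℕ)).testBit z = true ∨
          (bit1 t).testBit z = true := by
        have h1' := h1.symm
        simpa only [Bool.or_eq_true] using h1'
      simp only [testBit_bit1] at h2
      rcases h2 with h2 | h2 | h2
      · refine absurd ?_ (hT.third_ne (φ i).2 (φ j).2 hn).1
        rw [← hzv, show z = i from Fin.ext h2.symm]
      · refine absurd ?_ (hT.third_ne (φ i).2 (φ j).2 hn).2
        rw [← hzv, show z = j from Fin.ext h2.symm]
      · exact h2.symm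
  refine ⟨(MonoidHom.ofInjective hρinj).trans (MulEquiv.subgroupCongr ?_)⟩
  rw [MonoidHom.range_eq_map, ← hQ.gen, MonoidHom.map_closure, Model.grp]
  congr 1
  ext π
  constructor
  · rintro ⟨d, hd, rfl⟩
    obtain ⟨i, hi⟩ := hφbij.2 ⟨d, hd⟩
    refine ⟨i, fun j => ?_⟩
    rw [← htau i j, hi]
  · rintro ⟨i, hi⟩
    exact ⟨φ i, (φ i).2, Equiv.ext fun j => Fin.ext ((htau i j).trans (hi j).symm)⟩

end Cfsg.Agent.Fischer.Solv
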