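import Cfsg.Agent.Lib.Fischer.Solvable.Models

/-! The transvections in dimension five act as in the table. -/

set_option autoImplicit false
set_option maxRecDepth 20000

namespace Cfsg.Agent.Fischer.Solv

open Cfsg.Agent.Presented

theorem code4_cover : checkBelow code4.coverOK 9 (4 ^ 4) = true := by decide +kernel

theorem code4_pt : checkBelow code4.ptOK 6 45 = true := by decide +kernel

theorem code4_tv : checkBelow (code4.tvOK DataU4.model.tau) 11 (45 * 45) = true := by decide +kernel

theorem code5_cover : checkBelow code5.coverOK 11 (4 ^ 5) = true := by decide +kernel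

theorem code5_pt : checkBelow code5.ptOK 8 165 = true := by decide +kernel

theorem code5_tv_0 : checkBlock (code5.tvOK DataU5.model.tau) (165 * 165) 11 0 = true := by decide +kernel

theorem code5_tv_1 : checkBlock (code5.tvOK DataU5.model.tau) (165 * 165) 11 2048 = true := by decide +kernel

theorem code5_tv_2 : checkBlock (code5.tvOK DataU5.model.tau) (165 * 165) 11 4096 = true := by decide +kernel

theorem code5_tv_3 : checkBlock (code5.tvOK DataU5.model.tau) (165 * 165) 11 6144 = true := by decide +kernel

theorem code5_tv_4 : checkBlock (code5.tvOK DataU5.model.tau) (165 * 165) 11 8192 = true := by decide +kernel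

theorem code5_tv_5 : checkBlock (code5.tvOK DataU5.model.tau) (165 * 165) 11 10240 = true := by decide +kernel

theorem code5_tv_6 : checkBlock (code5.tvOK DataU5.model.tau) (165 * 165) 11 12288 = true := by decide +kernel

theorem code5_tv_7 : checkBlock (code5.tvOK DataU5.model.tau) (165 * 165) 11 14336 = true := by decide +kernel

theorem code5_tv_8 : checkBlock (code5.tvOK DataU5.model.tau) (165 * 165) 11 16384 = true := by decide +kernel

theorem code5_tv_9 : checkBlock (code5.tvOK DataU5.model.tau) (165 * 165) 11 18432 = true := by decide +kernel

theorem code5_tv_10 : checkBlock (code5.tvOK DataU5.model.tau) (165 * 165) 11 20480 = true := by decide +kernel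

theorem code5_tv_11 : checkBlock (code5.tvOK DataU5.model.tau) (165 * 165) 11 22528 = true := by decide +kernel

theorem code5_tv_12 : checkBlock (code5.tvOK DataU5.model.tau) (165 * 165) 11 24576 = true := by decide +kernel

theorem code5_tv_13 : checkBlock (code5.tvOK DataU5.model.tau) (165 * 165) 11 26624 = true := by decide +kernel

theorem code5_tv : checkBelow (code5.tvOK DataU5.model.tau) 15 (165 * 165) = true :=
  checkBelow_of_block (by decide +kernel)
    (checkBlock_join 14
    (checkBlock_join 13
    (checkBlock_join 12
    (checkBlock_join 11
    code5_tv_0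
    code5_tv_1)
    (checkBlock_join 11
    code5_tv_2
    code5_tv_3))
    (checkBlock_join 12
    (checkBlock_join 11
    code5_tv_4
    code5_tv_5)
    (checkBlock_join 11
    code5_tv_6
    code5_tv_7)))
    (checkBlock_join 13
    (checkBlock_join 12
    (checkBlock_join 11
    code5_tv_8
    code5_tv_9)
    (checkBlock_join 11
    code5_tv_10
    code5_tv_11))
    (checkBlock_join 12
    (checkBlock_join 11
    code5_tv_12
    code5_tv_13)
    (checkBlock_ge 12 28672 (Nat.le_of_ble_eq_true (by decide +kernel))))))

end Cfsg.Agent.Fischer.Solv
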