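import Cfsg.Agent.Lib.Fischer.Solvable.Data.Points
import Cfsg.Agent.Lib.Fischer.Solvable.Data.DataS6Checks
import Cfsg.Agent.Lib.Fischer.Solvable.Data.DataU4Checks
import Cfsg.Agent.Lib.Fischer.Solvable.Data.DataU5Checks
import Cfsg.Agent.Lib.Forms.SmallPSU4

/-!
The models are `Perm (Fin 6)`, `PSU(4, 2)` and `PSU(5, 2)`.
-/

set_option autoImplicit false

namespace Cfsg.Agent.Fischer.Solv

open Cfsg Cfsg.Agent.Presented
open scoped Matrix
open Cfsg.Agent.Forms.SmallPSU4 (add4 mul4 dec dec_add dec_mul dec_injective exists_pointHom)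

/-! ### Six letters -/

theorem pair_spec : ∀ i : Fin 15, pairA i ≠ pairB i ∧ pairIdx (pairA i) (pairB i) = i := by
  decide +kernel

theorem pairIdx_spec : ∀ a b : Fin 6, a ≠ b → pairIdx b a = pairIdx a b ∧
    ((pairA (pairIdx a b) = a ∧ pairB (pairIdx a b) = b) ∨
      (pairA (pairIdx a b) = b ∧ pairB (pairIdx a b) = a)) := by decide +kernel

theorem swap_tau : ∀ i j : Fin 15,
    ((pairIdx (Equiv.swap (pairA i) (pairB i) (pairA j))
      (Equiv.swap (pairA i) (pairB i) (pairB j)) : Fin 15) : ℕ) = DataS6.model.tau i j := by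
  decide +kernel

/-- The action on pairs. -/
def pairMap (π : Equiv.Perm (Fin 6)) (j : Fin 15) : Fin 15 := pairIdx (π (pairA j)) (π (pairB j))

theorem pairMap_mul (π σ : Equiv.Perm (Fin 6)) (j : Fin 15) :
    pairMap (π * σ) j = pairMap π (pairMap σ j) := by
  have hne : σ (pairA j) ≠ σ (pairB j) := fun h => (pair_spec j).1 (σ.injective h)
  unfold pairMap
  rcases (pairIdx_spec _ _ hne).2 with ⟨h1, h2⟩ | ⟨h1, h2⟩
  · rw [h1, h2]; rfl
  · rw [h1, h2]
    exact ((pairIdx_spec _ _ fun h => hne (π.injective h)).1).symm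

theorem pairMap_one (j : Fin 15) : pairMap 1 j = j := (pair_spec j).2

/-- The homomorphism to permutations of pairs. -/
def pairHom : Equiv.Perm (Fin 6) →* Equiv.Perm (Fin 15) where
  toFun π := ⟨pairMap π, pairMap π⁻¹,
    fun j => by rw [← pairMap_mul, inv_mul_cancel, pairMap_one],
    fun j => by rw [← pairMap_mul, mul_inv_cancel, pairMap_one]⟩
  map_one' := Equiv.ext pairMap_one
  map_mul' π σ := Equiv.ext (pairMap_mul π σ)

theorem exists_third : ∀ a b : Fin 6, ∃ c, c ≠ a ∧ c ≠ b := by decide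

theorem nonempty_six_iso : Nonempty (DataS6.model.grp ≃* Equiv.Perm (Fin 6)) := by
  have hinj : Function.Injective pairHom := by
    rw [injective_iff_map_eq_one]
    intro π hπ
    refine Equiv.ext fun a => ?_
    by_contra h
    obtain ⟨c, hca, hcπ⟩ := exists_third a (π a)
    have hne : a ≠ c := hca.symm
    have h1 : pairIdx (π a) (π c) = pairIdx a c := by
      have h2 : pairMap π (pairIdx a c) = pairIdx a c :=
        congrArg (fun ρ : Equiv.Perm (Fin 15) => ρ (pairIdx a c)) hπ
      unfold pairMap at h2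
      rcases (pairIdx_spec a c hne).2 with ⟨e1, e2⟩ | ⟨e1, e2⟩
      · rwa [e1, e2] at h2
      · rw [e1, e2] at h2
        rw [← h2]
        exact ((pairIdx_spec (π a) (π c) fun k => hne (π.injective k)).1).symm
    obtain ⟨-, e⟩ := pairIdx_spec (π a) (π c) fun k => hne (π.injective k)
    obtain ⟨-, e'⟩ := pairIdx_spec a c hne
    rw [h1] at e
    rcases e with ⟨e1, -⟩ | ⟨-, e1⟩ <;> rcases e' with ⟨f1, f2⟩ | ⟨f1, f2⟩
    · exact h (e1.symm.trans f1)
    · exact hcπ (f1.symm.trans e1)
    · exact hcπ (f2.symm.trans e1)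
    · exact h (e1.symm.trans f2)
  refine ⟨((MonoidHom.ofInjective hinj).trans (MulEquiv.subgroupCongr ?_)).symm⟩
  have htop : Subgroup.closure {σ : Equiv.Perm (Fin 6) | σ.IsSwap} = ⊤ :=
    Equiv.Perm.closure_isSwap
  rw [MonoidHom.range_eq_map, ← htop, MonoidHom.map_closure, Model.grp]
  congr 1
  ext π
  constructor
  · rintro ⟨_, ⟨a, b, hab, rfl⟩, rfl⟩
    refine ⟨pairIdx a b, fun j => ?_⟩
    have key := swap_tau (pairIdx a b) j
    rcases (pairIdx_spec a b hab).2 with ⟨e1, e2⟩ | ⟨e1, e2⟩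
    · rw [e1, e2] at key; exact key
    · rw [e1, e2, Equiv.swap_comm] at key; exact key
  · rintro ⟨i, hi⟩
    exact ⟨_, ⟨pairA i, pairB i, (pair_spec i).1, rfl⟩,
      Equiv.ext fun j => Fin.ext ((swap_tau i j).trans (hi j).symm)⟩

/-! ### Coded vectors -/

variable {n : ℕ}

/-- The code of a vector. -/
def vcode (x : Fin n → Fin 4) : ℕ := (List.ofFn fun i : Fin n => (x i : ℕ) * 4 ^ (i : ℕ)).sum

/-- The vector of a code. -/
def vdec (n c : ℕ) (i : Fin n) : Fin 4 := ⟨c / 4 ^ (i : ℕ) % 4, Nat.mod_lt _ (by norm_num)⟩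

/-- The coded hermitian form. -/
def hermC (x y : Fin n → Fin 4) : Fin 4 :=
  (List.ofFn fun i => mul4 (x i) (mul4 (y i) (y i))).foldr add4 0

/-- Multiplication of digits. -/
def mulN (a b : ℕ) : ℕ := Nat.shiftRight 0x9C78E400 (2 * (4 * a + b)) % 4

theorem mulN_spec : ∀ a b : Fin 4, (mul4 a b : ℕ) = mulN a b ∧ (add4 a b : ℕ) = Nat.xor a b := by
  decide

/-- The hermitian form on codes. -/
noncomputable def hermN : ℕ → ℕ → ℕ → ℕ :=
  fun n => Nat.rec (motive := fun _ => ℕ → ℕ → ℕ) (fun _ _ => 0)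
    (fun _ ih cx cy => force (cy % 4) fun y => force (mulN (cx % 4) (mulN y y)) fun h =>
      force (ih (cx / 4) (cy / 4)) fun r => Nat.xor h r) n

/-- `x + h • y` on codes. -/
noncomputable def axpyN : ℕ → ℕ → ℕ → ℕ → ℕ :=
  fun n => Nat.rec (motive := fun _ => ℕ → ℕ → ℕ → ℕ) (fun _ _ _ => 0)
    (fun _ ih h cx cy => force (Nat.xor (cx % 4) (mulN h (cy % 4))) fun d =>
      force (ih h (cx / 4) (cy / 4)) fun r => d + 4 * r) n

theorem vdec_succ (n c : ℕ) (i : Fin n) : vdec (n + 1) c i.succ = vdec n (c / 4) i := by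
  apply Fin.ext
  show c / 4 ^ ((i : ℕ) + 1) % 4 = c / 4 / 4 ^ (i : ℕ) % 4
  rw [pow_succ, Nat.div_div_eq_div_mul, mul_comm]

theorem vdec_zero_idx (n c : ℕ) : ((vdec (n + 1) c 0 : Fin 4) : ℕ) = c % 4 := by
  show c / 4 ^ 0 % 4 = c % 4
  rw [pow_zero, Nat.div_one]

theorem hermN_spec : ∀ (n cx cy : ℕ), ((hermC (vdec n cx) (vdec n cy) : Fin 4) : ℕ) = hermN n cx cy := by
  intro n
  induction n with
  | zero => intros; rfl
  | succ n ih =>
    intro cx cy
    have e : hermN (n + 1) cx cy =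
        Nat.xor (mulN (cx % 4) (mulN (cy % 4) (cy % 4))) (hermN n (cx / 4) (cy / 4)) :=
      by simp only [hermN, force_eq]
    rw [e, ← ih, hermC, hermC, List.ofFn_succ, List.foldr_cons,
      (mulN_spec _ _).2, (mulN_spec _ _).1, (mulN_spec _ _).1, vdec_zero_idx, vdec_zero_idx]
    simp only [vdec_succ]

theorem axpyN_spec : ∀ (n : ℕ) (h : Fin 4) (cx cy : ℕ),
    vdec n (axpyN n h cx cy) = fun l => add4 (vdec n cx l) (mul4 h (vdec n cy l)) := by
  intro n
  induction n with
  | zero => intro h cx cy; funext l; exact l.elim0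
  | succ n ih =>
    intro h cx cy
    have e : axpyN (n + 1) h cx cy =
        ((add4 (vdec (n + 1) cx 0) (mul4 h (vdec (n + 1) cy 0)) : Fin 4) : ℕ) +
          4 * axpyN n h (cx / 4) (cy / 4) := by
      rw [(mulN_spec _ _).2, (mulN_spec _ _).1, vdec_zero_idx, vdec_zero_idx]
      simp only [axpyN, force_eq]
    funext l
    induction l using Fin.cases with
    | zero =>
      apply Fin.ext
      rw [vdec_zero_idx, e, Nat.add_mul_mod_self_left, Nat.mod_eq_of_lt (Fin.isLt _)]
    | succ l =>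
      rw [vdec_succ, vdec_succ, vdec_succ, e, Nat.add_mul_div_left _ _ (by norm_num),
        Nat.div_eq_of_lt (Fin.isLt _), zero_add, ih]

/-- Coordinates of a model. -/
structure Coding where
  n : ℕ
  V : ℕ
  pT : NTree
  hintT : NTree

namespace Coding

variable (K : Coding)

/-- The coded point. -/
noncomputable def pt (j : ℕ) : Fin K.n → Fin 4 := vdec K.n (K.pT.get (2 * K.n) j)

/-- Multiple of a vector. -/
def scal (a : Fin 4) (x : Fin K.n → Fin 4) : Fin K.n → Fin 4 := fun i => mul4 a (x i)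

/-- The hint at a vector. -/
noncomputable def hint (x : Fin K.n → Fin 4) : ℕ := K.hintT.get 10 (vcode x)

/-- Every isotropic vector is a multiple of a point. -/
noncomputable def coverOK (c : ℕ) : Bool :=
  Nat.beq c 0 || !Nat.beq (hermN K.n c c) 0 ||
    force (K.hintT.get 10 c) fun u =>
      Nat.blt (u % 256) K.V && !Nat.beq (u / 256 % 4) 0 &&
        force (K.pT.get (2 * K.n) (u % 256)) fun cp =>
          Nat.beq c (axpyN K.n (u / 256 % 4) 0 cp)

/-- The points are isotropic and different. -/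
noncomputable def ptOK (j : ℕ) : Bool :=
  Nat.blt j 256 && decide (hermC (K.pt j) (K.pt j) = 0) && !decide (K.pt j = fun _ => 0) &&
    ([1, 2, 3] : List (Fin 4)).all fun a => Nat.beq (K.hint (K.scal a (K.pt j))) (j + 256 * a)

/-- The transvection at point `i` moves point `j` as the table says. -/
noncomputable def tvOK (tau : ℕ → ℕ → ℕ) (e : ℕ) : Bool :=
  force (e / K.V) fun i => force (e % K.V) fun j => force (tau i j) fun t =>
    force (K.pT.get (2 * K.n) i) fun ci => force (K.pT.get (2 * K.n) j) fun cj =>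
    force (K.pT.get (2 * K.n) t) fun ct =>
    force (axpyN K.n (hermN K.n cj ci) cj ci) fun cy =>
    force (K.hintT.get 10 cy / 256 % 4) fun a =>
      Nat.blt t K.V && !Nat.beq a 0 && Nat.beq cy (axpyN K.n a 0 ct)

end Coding

theorem scal_eq (K : Coding) (a : Fin 4) (c : ℕ) :
    vdec K.n (axpyN K.n a 0 c) = K.scal a (vdec K.n c) := by
  rw [axpyN_spec]
  funext l
  have h0 : vdec K.n 0 l = 0 := Fin.ext (by show 0 / 4 ^ (l : ℕ) % 4 = 0; simp)
  show add4 _ _ = mul4 a (vdec K.n c l)
  rw [h0]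
  generalize mul4 a (vdec K.n c l) = z
  fin_cases z <;> rfl

theorem vdec_code (x : Fin n → Fin 4) : ∃ c, c < 4 ^ n ∧ vdec n c = x :=
  ⟨(finFunctionFinEquiv x : Fin (4 ^ n)), (finFunctionFinEquiv x).2, funext fun i => by
    have h := congrFun (finFunctionFinEquiv.symm_apply_apply x) i
    refine Eq.trans ?_ h
    rfl⟩

section Field

variable {F : Type*} [Field F] {w : F}

/-- Decoding of a vector. -/
def dvec (w : F) (x : Fin n → Fin 4) : Fin n → F := fun i => dec w (x i)

theorem dec_zero : dec w 0 = 0 := rfl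

theorem dec_one : dec w 1 = 1 := rfl

theorem dec_hermC (h2 : (2 : F) = 0) (hw : w ^ 2 + w + 1 = 0) (x y : Fin n → Fin 4) :
    Cfsg.hermForm n F 2 (dvec w x) (dvec w y) = dec w (hermC x y) := by
  have key : ∀ l : List (Fin 4), dec w (l.foldr add4 0) = (l.map (dec w)).sum := by
    intro l
    induction l with
    | nil => rfl
    | cons a l ih => rw [List.foldr_cons, dec_add h2 hw, ih, List.map_cons, List.sum_cons]
  rw [hermC, key, List.map_ofFn, List.sum_ofFn, Cfsg.hermForm]
  refine Finset.sum_congr rfl fun i _ => ?_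
  simp [dvec, dec_mul hw, sq]

theorem exists_field_facts [Fintype F] (hF : Fintype.card F = 4) :
    (2 : F) = 0 ∧ ∃ w : F, w ^ 2 + w + 1 = 0 := by
  classical
  constructor
  · have h4 : ((4 : ℕ) : F) = 0 := by rw [← hF]; exact Nat.cast_card_eq_zero F
    have : (2 : F) * 2 = 0 := by rw [← h4]; norm_num
    exact mul_self_eq_zero.1 this
  · obtain ⟨w, -, hw01⟩ := Finset.exists_mem_notMem_of_card_lt_card
      (s := ({0, 1} : Finset F)) (t := Finset.univ)
      (Finset.card_le_two.trans_lt (by rw [Finset.card_univ, hF]; norm_num))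
    simp only [Finset.mem_insert, Finset.mem_singleton, not_or] at hw01
    have h3 : w ^ 3 = 1 := by simpa [hF] using FiniteField.pow_card_sub_one_eq_one w hw01.1
    exact ⟨w, mul_left_cancel₀ (sub_ne_zero.2 hw01.2) (by linear_combination h3)⟩

end Field

theorem iso_PSU {G : Type*} [Group G] (hcen : Subgroup.center G = ⊥) (hne : Nontrivial G)
    (M : Model) (e : G ≃* M.grp) (K : Coding) (hKV : K.V = M.V) (hn : 3 ≤ K.n)
    (h32 : ¬(K.n = 3 ∧ 2 = 2))
    (hcov : ∀ c < 4 ^ K.n, K.coverOK c = true) (hpt : ∀ j < K.V, K.ptOK j = true)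
    (htv : ∀ e < K.V * K.V, K.tvOK M.tau e = true)
    {F : Type} [Field F] [Fintype F] (hF : Fintype.card F = 4) :
    Nonempty (G ≃* Cfsg.PSU K.n F 2) := by
  classical
  obtain ⟨h2, w, hw⟩ := exists_field_facts hF
  have hF' : Fintype.card F = 2 ^ 2 := hF
  have hinjd := dec_injective h2 hw
  have hsurjd : Function.Surjective (dec w) :=
    ((Fintype.bijective_iff_injective_and_card _).2 ⟨hinjd, by simp [hF]⟩).2
  have hdne : ∀ a : Fin 4, a ≠ 0 → dec w a ≠ 0 := fun a ha h =>
    ha (hinjd (h.trans dec_zero.symm))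
  have hscal : ∀ (a : Fin 4) (x : Fin K.n → Fin 4), dvec w (K.scal a x) = dec w a • dvec w x :=
    fun a x => funext fun i => by simp [dvec, Coding.scal, dec_mul hw]
  have hdinj : ∀ x y : Fin K.n → Fin 4, dvec w x = dvec w y → x = y :=
    fun x y h => funext fun i => hinjd (congrFun h i)
  have hlt : ∀ i : Fin M.V, (i : ℕ) < K.V := fun i => lt_of_lt_of_eq i.2 hKV.symm
  have hP : ∀ j, j < K.V → hermC (K.pt j) (K.pt j) = 0 ∧ K.pt j ≠ (fun _ => 0) ∧
      (∀ a : Fin 4, a ≠ 0 → K.hint (K.scal a (K.pt j)) = j + 256 * (a : ℕ)) ∧ j < 256 := by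
    intro j hj
    have h := hpt j hj
    simp only [Coding.ptOK, Bool.and_eq_true, decide_eq_true_eq, Bool.not_eq_true',
      decide_eq_false_iff_not, List.all_eq_true, Nat.beq_eq] at h
    refine ⟨h.1.1.2, h.1.2, fun a ha => h.2 a ?_, Nat.blt_eq ▸ h.1.1.1⟩
    fin_cases a
    · exact absurd rfl ha
    all_goals simp
  have hsc : ∀ x, K.scal 1 x = x := fun x => funext fun i => by
    show mul4 1 (x i) = x i
    generalize x i = z
    fin_cases z <;> rfl
  have cover : ∀ v : Fin K.n → F, v ≠ 0 → Cfsg.hermForm K.n F 2 v v = 0 →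
      ∃ j : Fin M.V, ∃ a : F, a ≠ 0 ∧ v = a • dvec w (K.pt j) := by
    intro v hv hv0
    choose f hf using hsurjd
    obtain ⟨c, hc, hcv⟩ := vdec_code (fun i => f (v i))
    have hdv : dvec w (vdec K.n c) = v := by rw [hcv]; exact funext fun i => hf _
    have h := hcov c hc
    simp only [Coding.coverOK, force_eq, Bool.or_eq_true, Bool.and_eq_true, Bool.not_eq_true',
      Nat.blt_eq, Nat.beq_eq] at h
    rcases h with (h | h) | ⟨⟨hj, ha⟩, h⟩
    · subst h
      refine absurd ?_ hv
      rw [← hdv]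
      funext i
      exact (congrArg (dec w) (Fin.ext (by show 0 / 4 ^ (i : ℕ) % 4 = 0; simp))).trans dec_zero
    · have h' : hermC (vdec K.n c) (vdec K.n c) = 0 :=
        hinjd (by rw [← dec_hermC h2 hw, hdv, hv0, dec_zero])
      rw [← hermN_spec, h'] at h
      simp at h
    · set u := K.hintT.get 10 c
      let a : Fin 4 := ⟨u / 256 % 4, Nat.mod_lt _ (by norm_num)⟩
      refine ⟨⟨_, lt_of_lt_of_eq hj hKV⟩, dec w a, hdne a ?_, ?_⟩
      · intro e
        have e' : u / 256 % 4 = 0 := congrArg Fin.val e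
        rw [e'] at ha
        simp at ha
      · rw [← hscal, ← hdv]
        exact congrArg (dvec w) ((congrArg (vdec K.n) h).trans (scal_eq K a _))
  let ρ : Cfsg.SU K.n F 2 →* Matrix (Fin K.n) (Fin K.n) F :=
    (Cfsg.slToMat K.n F).comp (Cfsg.SU K.n F 2).subtype
  have hinjP : ∀ j k : Fin M.V, ∀ a : F, dvec w (K.pt j) = a • dvec w (K.pt k) → j = k := by
    intro j k a h
    obtain ⟨r, rfl⟩ := hsurjd a
    rw [← hscal] at h
    have h' := hdinj _ _ h
    have hj := hP j (hlt j)
    have hk := hP k (hlt k)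
    have hr : r ≠ 0 := by
      rintro rfl
      refine hj.2.1 (h'.trans (funext fun i => ?_))
      show mul4 0 _ = 0
      generalize K.pt k i = z
      fin_cases z <;> rfl
    have e1 := hj.2.2.1 1 (by decide)
    rw [hsc, h', hk.2.2.1 r hr] at e1
    apply Fin.ext
    have : (j : ℕ) < 256 ∨ 256 ≤ (j : ℕ) := lt_or_ge _ _
    have hr4 := r.2
    have e2 : ((1 : Fin 4) : ℕ) = 1 := rfl
    rw [e2] at e1
    have hj256 := hj.2.2.2
    have hk256 := hk.2.2.2
    omega
  obtain ⟨φ, hφ⟩ := exists_pointHom ρ (fun j : Fin M.V => dvec w (K.pt j)) (fun g i => by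
      refine cover _ ?_ ?_
      · intro h
        have h' := congrArg (ρ g⁻¹).mulVec h
        rw [Matrix.mulVec_mulVec, ← map_mul, inv_mul_cancel, map_one, Matrix.one_mulVec,
          Matrix.mulVec_zero] at h'
        exact (hP i (hlt i)).2.1 (hdinj _ _ (h'.trans (funext fun _ => dec_zero.symm)))
      · refine (g.2 _ _).trans ?_
        rw [dec_hermC h2 hw, (hP i (hlt i)).1, dec_zero]) hinjP
  have htau : ∀ (i : Fin M.V) (g : Cfsg.SU K.n F 2),
      g.1.1 = Cfsg.unitaryTransvection K.n 2 (dvec w (K.pt i)) 1 →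
      ∀ j : Fin M.V, (φ g j : ℕ) = M.tau i j := by
    intro i g hg j
    have hlt : (i : ℕ) * M.V + j < M.V * M.V :=
      calc (i : ℕ) * M.V + j < (i + 1) * M.V := by rw [Nat.succ_mul]; omega
        _ ≤ M.V * M.V := Nat.mul_le_mul_right _ i.2
    have h := htv _ (show (i : ℕ) * M.V + j < K.V * K.V by rw [hKV]; exact hlt)
    simp only [Coding.tvOK, force_eq, hKV, Bool.and_eq_true, Nat.blt_eq, Bool.not_eq_true',
      Nat.beq_eq] at h
    rw [show ((i : ℕ) * M.V + j) / M.V = i by
        rw [mul_comm, Nat.mul_add_div (by omega), Nat.div_eq_of_lt j.2, add_zero],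
      show ((i : ℕ) * M.V + j) % M.V = j by
        rw [mul_comm, Nat.mul_add_mod, Nat.mod_eq_of_lt j.2]] at h
    obtain ⟨⟨ht, ha⟩, he⟩ := h
    set an := K.hintT.get 10 _ / 256 % 4 with han
    let a : Fin 4 := ⟨an, Nat.mod_lt _ (by norm_num)⟩
    have ha0 : a ≠ 0 := fun e' => by
      have e'' : an = 0 := congrArg Fin.val e'
      rw [e''] at ha
      simp at ha
    have he' : (fun l => add4 (K.pt j l) (mul4 (hermC (K.pt j) (K.pt i)) (K.pt i l))) =
        K.scal a (K.pt (M.tau i j)) := by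
      refine Eq.trans ?_ ((congrArg (vdec K.n) he).trans (scal_eq K a _))
      rw [← hermN_spec, axpyN_spec]
      rfl
    refine congrArg Fin.val (hφ g j ⟨M.tau i j, ht⟩ ⟨dec w a, hdne a ha0, ?_⟩)
    show g.1.1 *ᵥ _ = _
    rw [hg, ClassicalSimple.unitaryTransvection_mulVec hF', Forms.hermB_apply, ← hscal, ← he']
    funext l
    simp [dvec, dec_add h2 hw, dec_mul hw, dec_hermC h2 hw]
  have hexists : ∀ i : Fin M.V, ∃ g : Cfsg.SU K.n F 2,
      g.1.1 = Cfsg.unitaryTransvection K.n 2 (dvec w (K.pt i)) 1 := by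
    intro i
    set v := dvec w (K.pt i)
    have hv0 : Cfsg.hermForm K.n F 2 v v = 0 := by
      rw [dec_hermC h2 hw, (hP i (hlt i)).1, dec_zero]
    have hvne : v ≠ 0 := fun h => (hP i (hlt i)).2.1
      (hdinj _ _ (h.trans (funext fun _ => dec_zero.symm)))
    have hdet : (Cfsg.unitaryTransvection K.n 2 v 1).det = 1 := by
      have hdot : (fun j => v j ^ 2) ⬝ᵥ v = 0 := by
        rw [← hv0]
        simp only [Cfsg.hermForm, dotProduct]
        exact Finset.sum_congr rfl fun i _ => mul_comm _ _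
      rw [Cfsg.unitaryTransvection, one_smul, Matrix.vecMulVec_eq Unit,
        Matrix.det_one_add_replicateCol_mul_replicateRow, hdot, add_zero]
    refine ⟨⟨⟨_, hdet⟩, (ClassicalSimple.mem_SU_iff hF' _).2 ?_⟩, rfl⟩
    refine (ClassicalSimple.unitaryTransvection_isometry_iff hF' hvne ?_ 1).2 ?_
    · rw [Forms.hermB_apply]; exact hv0
    · rw [one_pow, one_add_one_eq_two, h2]
  have hrange : φ.range = M.grp := by
    rw [MonoidHom.range_eq_map,
      ← ClassicalSimple.closure_unitaryTransvectionSet hF' hn h32, MonoidHom.map_closure]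
    refine le_antisymm ((Subgroup.closure_le _).2 ?_) ((Subgroup.closure_le _).2 ?_)
    · rintro _ ⟨g, ⟨v, c, hv0, hg⟩, rfl⟩
      by_cases htriv : v = 0 ∨ c = 0
      · have hone : g = 1 := by
          refine Subtype.ext (Subtype.ext (hg.trans ?_))
          show _ = (1 : Matrix (Fin K.n) (Fin K.n) F)
          rcases htriv with rfl | rfl <;> simp [Cfsg.unitaryTransvection]
        rw [hone, map_one]
        exact one_mem _
      rw [not_or] at htriv
      obtain ⟨hv, hc⟩ := htriv
      obtain ⟨j, a, ha, rfl⟩ := cover v hv hv0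
      have hc1 : c = 1 := by
        have hmem := (ClassicalSimple.mem_SU_iff hF' g.1).1 g.2
        rw [hg] at hmem
        have hh := (ClassicalSimple.unitaryTransvection_isometry_iff hF' hv
          (by rw [Forms.hermB_apply]; exact hv0) c).1 hmem
        have h' : c * (c + 1) = 0 := by linear_combination hh
        have := (mul_eq_zero.1 h').resolve_left hc
        linear_combination this - h2
      have ha3 : a * a ^ 2 = 1 := by
        have := FiniteField.pow_card_sub_one_eq_one a ha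
        rw [hF] at this
        rw [← this]; ring
      refine Subgroup.subset_closure ⟨j, htau j g ?_⟩
      rw [hg, hc1]
      ext p r
      simp only [Cfsg.unitaryTransvection, one_smul, Matrix.add_apply, Matrix.vecMulVec_apply,
        Pi.smul_apply, smul_eq_mul, mul_pow]
      linear_combination (dvec w (K.pt j) p * dvec w (K.pt j) r ^ 2) * ha3
    · rintro π ⟨i, hi⟩
      obtain ⟨g, hg⟩ := hexists i
      refine Subgroup.subset_closure ⟨g, ⟨_, 1, ?_, hg⟩, ?_⟩
      · rw [dec_hermC h2 hw, (hP i (hlt i)).1, dec_zero]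
      · exact Equiv.ext fun j => Fin.ext ((htau i g hg j).trans (hi j).symm)
  let ψ : Cfsg.SU K.n F 2 →* G :=
    e.symm.toMonoidHom.comp ((MulEquiv.subgroupCongr hrange).toMonoidHom.comp φ.rangeRestrict)
  have hsurj : Function.Surjective ψ :=
    e.symm.surjective.comp ((MulEquiv.subgroupCongr hrange).surjective.comp
      φ.rangeRestrict_surjective)
  have hle : Subgroup.center (Cfsg.SU K.n F 2) ≤ ψ.ker := by
    intro z hz
    rw [MonoidHom.mem_ker, ← Subgroup.mem_bot, ← hcen, Subgroup.mem_center_iff]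
    intro y
    obtain ⟨g, rfl⟩ := hsurj y
    rw [← map_mul, ← map_mul, Subgroup.mem_center_iff.1 hz g]
  have hker : ψ.ker ≤ Subgroup.center (Cfsg.SU K.n F 2) := by
    rcases ClassicalSimple.SU_normal_eq_top_or_le_center hF' hn h32 ψ.ker with h | h
    · obtain ⟨a, b, hab⟩ := hne
      obtain ⟨p, rfl⟩ := hsurj a
      obtain ⟨r, rfl⟩ := hsurj b
      exact absurd (((MonoidHom.mem_ker).1 (h ▸ Subgroup.mem_top p)).trans
        ((MonoidHom.mem_ker).1 (h ▸ Subgroup.mem_top r)).symm) hab
    · exact h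
  exact ⟨((QuotientGroup.quotientMulEquivOfEq (le_antisymm hle hker)).trans
    (QuotientGroup.quotientKerEquivOfSurjective ψ hsurj)).symm⟩

/-- Coordinates in dimension four. -/
noncomputable def code4 : Coding := ⟨4, 45, ptT4, hintT4⟩

/-- Coordinates in dimension five. -/
noncomputable def code5 : Coding := ⟨5, 165, ptT5, hintT5⟩

end Cfsg.Agent.Fischer.Solv
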