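import Cfsg.Agent.Lib.Fischer.Solvable.Setup
import Cfsg.Agent.Lib.Fischer.RankThree
import Cfsg.Agent.Lib.Fischer.WidthTwo

/-!
The axiom of a generalised quadrangle for a class of 3-transpositions with the geometry of lines,
the points near a line, and the numbers of members at each distance.
-/

set_option autoImplicit false

namespace Cfsg.Agent.Fischer.Solv

open Cfsg

variable {G : Type*} [Group G] {D : Set G}

/-- The members of `perp D x` commuting with `a`. -/
def blk (D : Set G) (x a : G) : Set G := {b | b ∈ perp D x ∧ Commute a b}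

/-- The members of `perp D x` commuting with `w`. -/
def prj (D : Set G) (x w : G) : Set G := {a | a ∈ perp D x ∧ Commute a w}

/-- The move attached to `b`. -/
def tau (x b q : G) : G := x * (b * q * b) * x

namespace GQ

variable (hQ : GQ D)
include hQ

theorem ts : TSet D := hQ.toTClass.toTSet

theorem trans_commute {x a b c : G} (hx : x ∈ D) (ha : a ∈ perp D x) (hb : b ∈ perp D x)
    (hc : c ∈ perp D x) (h1 : Commute a b) (h2 : Commute b c) : Commute a c :=
  hQ.clique x hx b hb a ha.1 c hc.1 ha.2.2.symm h1 hc.2.2.symm h2.symm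

theorem proj_unique {x w a b : G} (hx : x ∈ D) (hw : w ∈ nbr D x) (ha : a ∈ perp D x)
    (hb : b ∈ perp D x) (hab : Commute a b) (haw : Commute a w) (hbw : Commute b w) : a = b := by
  by_contra hne
  exact hw.2 (hQ.clique a ha.1 b ⟨hb.1, Ne.symm hne, hab⟩ x hx w hw.1 ha.2.2 hb.2.2 haw.symm
    hbw.symm)

theorem star_mem {x a b : G} (ha : a ∈ perp D x) (hb : b ∈ perp D x) :
    a * b * a ∈ perp D x := by
  refine ⟨hQ.ts.conj_mem ha.1 hb.1, fun e => hb.2.1 ?_, (ha.2.2.mul_right hb.2.2).mul_right ha.2.2⟩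
  refine invol_conj_inj (hQ.sq a ha.1) (e.trans ?_)
  exact (invol_conj_eq_of_commute (hQ.sq a ha.1) ha.2.2.symm).symm

/-- The class of the third point depends only on the classes. -/
theorem star_congr {x a a' b : G} (hx : x ∈ D) (ha : a ∈ perp D x) (ha' : a' ∈ perp D x)
    (hb : b ∈ perp D x) (haa : Commute a' a) (hab : ¬Commute a b) :
    Commute (a' * b * a') (a * b * a) := by
  have ha'b : ¬Commute a' b := fun h => hab (hQ.trans_commute hx ha ha' hb haa.symm h)
  rw [hQ.ts.braid ha.1 hb.1 hab, ← commute_invol_conj_left (hQ.sq b hb.1)]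
  have e : b * (a' * b * a') * b = a' := by
    rw [hQ.ts.braid ha'.1 hb.1 ha'b]
    simp only [mul_assoc, invol_cancel (hQ.sq b hb.1), hQ.sq b hb.1, mul_one]
  rw [e]
  exact haa

theorem exists_pair_conj' [Finite G] {x a u v : G} (hx : x ∈ D) (ha : a ∈ perp D x) (hu : u ∈ D)
    (hv : v ∈ perp D u) : ∃ g : G, g * x * g⁻¹ = u ∧ g * a * g⁻¹ = v :=
  exists_pair_conj hQ.toTClass hQ.sol hx ha hu hv

theorem both_eq {x a : G} (hx : x ∈ D) (ha : a ∈ perp D x) :
    both D x a = insert x (blk D x a) := by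
  ext e
  constructor
  · rintro ⟨he, h1, h2⟩
    by_cases h : e = x
    · exact Set.mem_insert_iff.2 (Or.inl h)
    · exact Set.mem_insert_iff.2 (Or.inr ⟨⟨he, h, h1.symm⟩, h2.symm⟩)
  · rintro (rfl | ⟨h1, h2⟩)
    · exact ⟨hx, Commute.refl e, ha.2.2⟩
    · exact ⟨h1.1, h1.2.2.symm, h2.symm⟩

theorem ncard_both [Finite G] {x a : G} (hx : x ∈ D) (ha : a ∈ perp D x) :
    (both D x a).ncard = (blk D x a).ncard + 1 := by
  rw [hQ.both_eq hx ha, Set.ncard_insert_of_notMem (fun h => h.1.2.1 rfl) (Set.toFinite _)]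

theorem ncard_blk [Finite G] {x a u v : G} (hx : x ∈ D) (ha : a ∈ perp D x) (hu : u ∈ D)
    (hv : v ∈ perp D u) : (blk D x a).ncard = (blk D u v).ncard := by
  have := ncard_both_eq hQ.toTClass hQ.sol hx ha hu hv
  rw [hQ.ncard_both hx ha, hQ.ncard_both hu hv] at this
  omega

theorem two_le_blk [Finite G] {x a : G} (hx : x ∈ D) (ha : a ∈ perp D x) :
    2 ≤ (blk D x a).ncard := by
  obtain ⟨e, he, hne, hc⟩ := hQ.thick x hx a ha
  exact (Set.one_lt_ncard (Set.toFinite _)).2 ⟨a, ⟨ha, Commute.refl a⟩, e, ⟨he, hc⟩, hne.symm⟩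

/-- Some member commutes with both ends of a non-commuting pair. -/
theorem prj_nonempty [Finite G] {x w : G} (hx : x ∈ D) (hw : w ∈ nbr D x) :
    (prj D x w).Nonempty := by
  by_contra hnone
  have key : ∀ v, Relation.ReflTransGen (CAdj D) x v → Commute x v := by
    intro v hv
    induction hv with
    | refl => exact Commute.refl x
    | tail hreach hstep ih =>
      rename_i p q
      by_contra hxq
      have hp : p ∈ perp D x := by
        refine ⟨?_, fun e => hxq (e ▸ hstep.2), ih⟩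
        rcases Relation.ReflTransGen.cases_tail hreach with rfl | ⟨_, -, h⟩
        · exact hx
        · exact h.1
      obtain ⟨g, hgx, hgq⟩ := nbr_transitive hQ.toTClass hQ.sol hQ.conn hx ⟨hstep.1, hxq⟩ hw
      refine hnone ⟨g * p * g⁻¹, ?_, ?_⟩
      · have := conj_mem_perp hQ.toTClass g hp
        rwa [hgx] at this
      · rw [← hgq]; exact hstep.2.conj g
  exact hw.2 (key w (hQ.conn x hx w hw.1))

/-- The axiom of a generalised quadrangle. -/
theorem exists_proj [Finite G] {x w b : G} (hx : x ∈ D) (hw : w ∈ nbr D x) (hb : b ∈ perp D x) :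
    ∃ e ∈ prj D x w, Commute b e := by
  obtain ⟨a, ha, haw⟩ := hQ.prj_nonempty hx hw
  by_cases hba : Commute b a
  · exact ⟨a, ⟨ha, haw⟩, hba⟩
  by_cases hbw : Commute b w
  · exact ⟨b, ⟨hb, hbw⟩, Commute.refl b⟩
  obtain ⟨s, hs, hsa, has⟩ := hQ.thick x hx a ha
  have hT := hQ.ts
  have hsb : ¬Commute s b := fun h => hba (hQ.trans_commute hx hb hs ha h.symm has.symm)
  set q := a * (s * b * s) * a with hqdef
  have hq : q ∈ perp D x := hQ.star_mem ha (hQ.star_mem hs hb)
  have hqb : Commute q b := by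
    have h1 := hQ.star_congr hx ha hs hb has.symm (fun h => hba h.symm)
    have h2 := (commute_invol_conj (hQ.sq a ha.1)).2 h1
    rwa [invol_conj_invol (hQ.sq a ha.1)] at h2
  by_cases hqw : Commute q w
  · exact ⟨q, ⟨hq, hqw⟩, hqb.symm⟩
  have hqa : ¬Commute q a := fun h => hba (hQ.trans_commute hx hb hq ha hqb.symm h)
  have ib := invol_cancel (hQ.sq b hb.1)
  have iq := invol_cancel (hQ.sq q hq.1)
  have ia := invol_cancel (hQ.sq a ha.1)
  set t := b * q with htdef
  have ht : t * t = 1 := by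
    rw [htdef, show b * q * (b * q) = b * (q * b) * q by simp only [mul_assoc], hqb.eq]
    simp only [mul_assoc, ib, hQ.sq q hq.1]
  have htb : t = q * b := hqb.symm.eq
  have htx : Commute t x := (hb.2.2.mul_right hq.2.2).symm
  have hat : t * a * t = s := by
    have e1 : q * a * q = b * s * b := by
      rw [hT.braid hq.1 ha.1 hqa, hqdef]
      simp only [mul_assoc, ia, hQ.sq a ha.1, mul_one]
      simpa only [mul_assoc] using hT.braid hs.1 hb.1 hsb
    conv_lhs => arg 2; rw [htb]
    rw [htdef, show b * q * a * (q * b) = b * (q * a * q) * b by simp only [mul_assoc], e1]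
    exact invol_conj_invol (hQ.sq b hb.1) s
  set r := t * w * t with hrdef
  have hr : r ∈ D := by
    have h1 := hT.conj_mem hb.1 (hT.conj_mem hq.1 hw.1)
    rwa [show b * (q * w * q) * b = b * q * w * (q * b) by simp only [mul_assoc], ← htb] at h1
  have har : ¬Commute a r := fun h => by
    rw [hrdef, ← commute_invol_conj_left ht, hat] at h
    exact hsa (hQ.proj_unique hx hw ha hs has haw h).symm
  have hxr : ¬Commute x r := fun h => by
    rw [hrdef, ← commute_invol_conj_left ht, invol_conj_eq_of_commute ht htx] at h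
    exact hw.2 h
  have hwr : Commute w r := by
    rw [show r = b * (q * w * q) * b by
      rw [hrdef]; conv_lhs => arg 2; rw [htb]
      rw [htdef]; simp only [mul_assoc],
      ← commute_invol_conj_left (hQ.sq b hb.1), hT.braid hb.1 hw.1 hbw, hT.braid hq.1 hw.1 hqw,
      commute_invol_conj (hQ.sq w hw.1)]
    exact hqb.symm
  set u := a * t * a with hudef
  have hu : u * u = 1 := by
    rw [hudef]
    simp only [mul_assoc, ia, invol_cancel ht, hQ.sq a ha.1]
  set z := w * (x * r * x) * w with hzdef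
  set e := u * z * u with hedef
  have hz : z ∈ D := hT.conj_mem hw.1 (hT.conj_mem hx hr)
  have heD : e ∈ D := by
    have := hQ.toTClass.conj u z hz
    rwa [inv_eq_self hu] at this
  have hxa : x * r * x = r * x * r := hT.braid hx hr hxr
  have hew : Commute e w := by
    rw [hedef, commute_invol_conj_left hu]
    have e1 : u * w * u = a * r * a := by
      rw [hudef, hrdef, show a * t * a * w * (a * t * a) = a * t * (a * w * a) * t * a by
        simp only [mul_assoc], invol_conj_eq_of_commute (hQ.sq a ha.1) haw]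
      simp only [mul_assoc]
    rw [e1, hzdef, commute_invol_conj_left (hQ.sq w hw.1),
      invol_conj_eq_of_commute (hQ.sq w hw.1) ((haw.symm.mul_right hwr).mul_right haw.symm),
      hxa, hT.braid ha.1 hr har, commute_invol_conj (hQ.sq r hr)]
    exact ha.2.2
  have hex : Commute e x := by
    have hux : Commute u x :=
      (ha.2.2.symm.mul_left htx).mul_left ha.2.2.symm
    rw [hedef, commute_invol_conj_left hu, invol_conj_eq_of_commute hu hux, hzdef,
      commute_invol_conj_left (hQ.sq w hw.1),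
      hT.braid hw.1 hx (fun h => hw.2 h.symm), commute_invol_conj (hQ.sq x hx)]
    exact hwr.symm
  have heb : Commute e b := by
    have e1 : t * (a * b * a) * t = a * q * a := by
      rw [hT.braid ha.1 hb.1 (fun h => hba h.symm), ← hT.braid hq.1 ha.1 hqa]
      conv_lhs => arg 1; arg 1; rw [htb]
      rw [htdef]
      simp only [mul_assoc, ib]
    have e2 : u * b * u = q := by
      rw [hudef, show a * t * a * b * (a * t * a) = a * (t * (a * b * a) * t) * a by
        simp only [mul_assoc], e1]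
      exact invol_conj_invol (hQ.sq a ha.1) q
    have e3 : q * r * q = b * w * b := by
      rw [hrdef]; conv_lhs => arg 1; arg 2; arg 1; arg 1; rw [htb]
      rw [htdef]
      simp only [mul_assoc, iq, hQ.sq q hq.1, mul_one]
    rw [hedef, commute_invol_conj_left hu, e2, hzdef, commute_invol_conj_left (hQ.sq w hw.1),
      hT.braid hw.1 hq.1 (fun h => hqw h.symm), commute_invol_conj_left (hQ.sq x hx),
      show x * (q * w * q) * x = q * (x * w * x) * q by
        simp only [← mul_assoc, hq.2.2.eq]; simp only [mul_assoc, hq.2.2.eq],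
      ← commute_invol_conj_left (hQ.sq q hq.1), e3, hT.braid hb.1 hw.1 hbw,
      hT.braid hx hw.1 hw.2, commute_invol_conj (hQ.sq w hw.1)]
    exact hb.2.2.symm
  exact ⟨e, ⟨⟨heD, fun h => hw.2 (h ▸ hew), hex.symm⟩, hew⟩, heb.symm⟩

/-- The point of a line near `x` seen from `w`. -/
theorem exists_near [Finite G] {x w q : G} (hx : x ∈ D) (hw : w ∈ nbr D x) (hq : q ∈ perp D w) :
    ∃ a ∈ prj D x w, Commute q a := by
  obtain ⟨a, ⟨ha, hax⟩, hqa⟩ := hQ.exists_proj hw.1 ⟨hx, fun h => hw.2 h.symm⟩ hq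
  exact ⟨a, ⟨⟨ha.1, fun e => hw.2 (e ▸ ha.2.2.symm), hax.symm⟩, ha.2.2.symm⟩, hqa⟩

theorem tau_mem {x b w : G} (hx : x ∈ D) (hw : w ∈ nbr D x) (hb : b ∈ perp D x) :
    tau x b w ∈ nbr D x := by
  refine ⟨hQ.ts.conj_mem hx (hQ.ts.conj_mem hb.1 hw.1), fun h => hw.2 ?_⟩
  rwa [tau, ← commute_invol_conj_left (hQ.sq x hx),
    show x * x * x = x by rw [hQ.sq x hx, one_mul], ← commute_invol_conj_left (hQ.sq b hb.1),
    invol_conj_eq_of_commute (hQ.sq b hb.1) hb.2.2.symm] at h

theorem tau_commute {x b w : G} (hx : x ∈ D) (hw : w ∈ nbr D x) (hb : b ∈ perp D x)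
    (hbw : ¬Commute b w) : Commute (tau x b w) w := by
  rw [tau, commute_invol_conj_left (hQ.sq x hx), hQ.ts.braid hb.1 hw.1 hbw,
    hQ.ts.braid hx hw.1 hw.2, commute_invol_conj (hQ.sq w hw.1)]
  exact hb.2.2.symm

theorem tau_ne {x b w : G} (hx : x ∈ D) (hw : w ∈ nbr D x) (hb : b ∈ perp D x)
    (hbw : ¬Commute b w) : tau x b w ≠ w := by
  intro h
  have h1 : b * w * b = x * w * x := by
    conv_rhs => rw [← h, tau]
    exact (invol_conj_invol (hQ.sq x hx) _).symm
  rw [hQ.ts.braid hb.1 hw.1 hbw, hQ.ts.braid hx hw.1 hw.2] at h1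
  exact hb.2.1 (invol_conj_inj (hQ.sq w hw.1) h1)

omit hQ in
theorem commute_tau {x b w a : G} (hax : Commute a x) (hab : Commute a b) (haw : Commute a w) :
    Commute a (tau x b w) :=
  (hax.mul_right ((hab.mul_right haw).mul_right hab)).mul_right hax

theorem tau_injective {x b b' w : G} (hx : x ∈ D) (hw : w ∈ nbr D x) (hb : b ∈ perp D x)
    (hb' : b' ∈ perp D x) (hbw : ¬Commute b w) (hb'w : ¬Commute b' w)
    (h : tau x b w = tau x b' w) : b = b' := by
  have h1 := invol_conj_inj (hQ.sq x hx) h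
  rw [hQ.ts.braid hb.1 hw.1 hbw, hQ.ts.braid hb'.1 hw.1 hb'w] at h1
  exact invol_conj_inj (hQ.sq w hw.1) h1

theorem tau_tau {x b : G} (hx : x ∈ D) (hb : b ∈ perp D x) (q : G) :
    tau x b (tau x b q) = q := by
  have e : ∀ y, b * (x * y * x) * b = x * (b * y * b) * x := fun y => by
    simp only [← mul_assoc, hb.2.2.symm.eq]
    simp only [mul_assoc, hb.2.2.symm.eq]
  rw [tau, tau, e, invol_conj_invol (hQ.sq x hx), invol_conj_invol (hQ.sq b hb.1)]

/-- Members off `perp D x` commuting with `w` are moves of `w`. -/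
theorem exists_tau [Finite G] {x w q : G} (hx : x ∈ D) (hw : w ∈ nbr D x) (hq : q ∈ nbr D x)
    (hqw : Commute q w) (hne : q ≠ w) :
    ∃ b ∈ perp D x, ¬Commute b w ∧ q = tau x b w := by
  obtain ⟨a, ⟨ha, haw⟩, hqa⟩ := hQ.exists_near hx hw ⟨hq.1, hne, hqw.symm⟩
  have haw' : a ∈ perp D w := ⟨ha.1, fun e => hw.2 (e ▸ ha.2.2), haw.symm⟩
  set S := blk D x a \ {a} with hS
  set R := blk D w a \ {a} with hR
  have hSn : ∀ b ∈ S, ¬Commute b w := fun b hb h =>
    hb.2 (hQ.proj_unique hx hw ha hb.1.1 hb.1.2 haw h).symm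
  have hmap : (fun b => tau x b w) '' S ⊆ R := by
    rintro _ ⟨b, hb, rfl⟩
    have hm := hQ.tau_mem hx hw hb.1.1
    refine ⟨⟨⟨hm.1, hQ.tau_ne hx hw hb.1.1 (hSn b hb),
      (hQ.tau_commute hx hw hb.1.1 (hSn b hb)).symm⟩,
      commute_tau ha.2.2.symm hb.1.2 haw⟩, fun h => hm.2 ?_⟩
    replace h : tau x b w = a := h
    rw [h]
    exact ha.2.2
  have hcard : R.ncard ≤ ((fun b => tau x b w) '' S).ncard := by
    rw [Set.InjOn.ncard_image (fun b hb b' hb' h =>
      hQ.tau_injective hx hw hb.1.1 hb'.1.1 (hSn b hb) (hSn b' hb') h), hR, hS,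
      Set.ncard_sdiff_singleton_of_mem (s := blk D w a) ⟨haw', Commute.refl a⟩,
      Set.ncard_sdiff_singleton_of_mem (s := blk D x a) ⟨ha, Commute.refl a⟩,
      hQ.ncard_blk hx ha hw.1 haw']
  have hqR : q ∈ R := ⟨⟨⟨hq.1, hne, hqw.symm⟩, hqa.symm⟩, fun h => hq.2 (by
    rw [Set.mem_singleton_iff] at h; rw [h]; exact ha.2.2)⟩
  rw [← Set.eq_of_subset_of_ncard_le hmap hcard (Set.toFinite _)] at hqR
  obtain ⟨b, hb, rfl⟩ := hqR
  exact ⟨b, hb.1.1, hSn b hb, rfl⟩

theorem conj_prj {x w a b : G} (ha : a ∈ prj D x w) (hb : b ∈ prj D x w) :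
    a * b * a ∈ prj D x w :=
  ⟨hQ.star_mem ha.1 hb.1, (ha.2.mul_left hb.2).mul_left ha.2⟩

theorem prj_width_one {x w a b : G} (hx : x ∈ D) (hw : w ∈ nbr D x) (ha : a ∈ prj D x w)
    (hb : b ∈ prj D x w) (h : Commute a b) : a = b :=
  hQ.proj_unique hx hw ha.1 hb.1 h ha.2 hb.2

theorem ncard_prj_eq_pow [Finite G] {x w : G} (hx : x ∈ D) (hw : w ∈ nbr D x) :
    ∃ j, (prj D x w).ncard = 3 ^ j :=
  ncard_eq_three_pow hQ.ts (fun _ h => h.1.1) (hQ.prj_nonempty hx hw)
    (fun _ ha _ hb h => hQ.prj_width_one hx hw ha hb h) (fun _ ha _ hb => hQ.conj_prj ha hb)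

theorem ncard_perp [Finite G] {x w : G} {s : ℕ}
    (hs : ∀ a ∈ perp D x, (blk D x a).ncard = s) (hx : x ∈ D) (hw : w ∈ nbr D x) :
    (perp D x).ncard = (prj D x w).ncard * s := by
  classical
  have key : ∀ b ∈ perp D x, ∃ e ∈ prj D x w, Commute b e := fun b hb => hQ.exists_proj hx hw hb
  choose! π hπ hπc using key
  rw [Set.ncard_eq_toFinset_card _ (Set.toFinite _),
    Finset.card_eq_sum_card_fiberwise (f := π) (t := (Set.toFinite (prj D x w)).toFinset)
      (fun b hb => by
        simp only [Finset.mem_coe, Set.Finite.mem_toFinset] at hb ⊢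
        exact hπ b hb)]
  rw [Finset.sum_eq_card_nsmul (b := s), smul_eq_mul, ← Set.ncard_eq_toFinset_card]
  intro a ha
  rw [Set.Finite.mem_toFinset] at ha
  rw [← hs a ha.1, ← Set.ncard_coe_finset]
  congr 1
  ext b
  simp only [Finset.coe_filter, Set.Finite.mem_toFinset, Set.mem_ofPred_eq]
  constructor
  · rintro ⟨hb, rfl⟩
    exact ⟨hb, (hπc b hb).symm⟩
  · rintro ⟨hb, hab⟩
    refine ⟨hb, hQ.prj_width_one hx hw (hπ b hb) ha ?_⟩
    exact hQ.trans_commute hx (hπ b hb).1 hb ha.1 (hπc b hb).symm hab.symm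

theorem ncard_nbr_inter [Finite G] {x a : G} (hx : x ∈ D) (ha : a ∈ perp D x) :
    (nbr D x ∩ {q | Commute a q}).ncard + (blk D x a).ncard = (perp D a).ncard := by
  have hsub : both D x a \ {a} ⊆ perp D a := fun e he => ⟨he.1.1, he.2, he.1.2.2.symm⟩
  have heq : nbr D x ∩ {q | Commute a q} = perp D a \ (both D x a \ {a}) := by
    ext q
    constructor
    · rintro ⟨hq, hc⟩
      exact ⟨⟨hq.1, fun e => hq.2 (e ▸ ha.2.2), hc⟩, fun h => hq.2 h.1.2.1.symm⟩
    · rintro ⟨hq, hn⟩
      exact ⟨⟨hq.1, fun h => hn ⟨⟨hq.1, h.symm, hq.2.2.symm⟩, hq.2.1⟩⟩, hq.2.2⟩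
  have h1 := Set.ncard_sdiff_add_ncard_of_subset hsub (Set.toFinite _)
  have h2 : (both D x a \ {a}).ncard = (blk D x a).ncard := by
    rw [Set.ncard_sdiff_singleton_of_mem (show a ∈ both D x a from ⟨ha.1, ha.2.2.symm, Commute.refl a⟩),
      hQ.ncard_both hx ha]
    omega
  rw [heq, ← h2]
  exact h1

/-- The number of members not commuting with `x`. -/
theorem ncard_nbr [Finite G] {x : G} {s n : ℕ} (hs : ∀ a ∈ perp D x, (blk D x a).ncard = s)
    (hx : x ∈ D) (hn : ∀ w ∈ nbr D x, (prj D x w).ncard = n) (hA : (perp D x).ncard = n * s)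
    (hn0 : 0 < n) : (nbr D x).ncard = s * s * (n - 1) := by
  classical
  have hcount : ∀ a ∈ perp D x, (nbr D x ∩ {q | Commute a q}).ncard = n * s - s := by
    intro a ha
    have h1 := hQ.ncard_nbr_inter hx ha
    have h2 := ncard_eq_of_equivariant hQ.toTClass (F := perp D)
      (fun g _ _ => conj_mem_perp hQ.toTClass g) ha.1 hx
    rw [hs a ha, h2, hA] at h1
    omega
  have h := Finset.sum_card_bipartiteAbove_eq_sum_card_bipartiteBelow (fun a q : G => Commute a q)
    (s := (Set.toFinite (perp D x)).toFinset) (t := (Set.toFinite (nbr D x)).toFinset)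
  rw [Finset.sum_eq_card_nsmul (b := n * s - s), Finset.sum_eq_card_nsmul (b := n), smul_eq_mul,
    smul_eq_mul, ← Set.ncard_eq_toFinset_card, ← Set.ncard_eq_toFinset_card, hA] at h
  · refine Nat.eq_of_mul_eq_mul_right hn0 (h.symm.trans ?_)
    rw [show n * s - s = (n - 1) * s by rw [Nat.sub_mul, one_mul]]
    ring
  · intro q hq
    rw [Set.Finite.mem_toFinset] at hq
    rw [← hn q hq, ← Set.ncard_coe_finset]
    congr 1
    ext a
    simp [Finset.bipartiteBelow, prj]
  · intro a ha
    rw [Set.Finite.mem_toFinset] at ha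
    rw [← hcount a ha, ← Set.ncard_coe_finset]
    congr 1
    ext q
    simp [Finset.bipartiteAbove]

/-- The members not commuting with `x` generate. -/
theorem closure_nbr {x : G} (hx : x ∈ D) : Subgroup.closure (nbr D x) = ⊤ := by
  set N := Subgroup.closure (nbr D x) with hN
  obtain ⟨w, hw, hxw⟩ := hQ.not_all_commute x hx
  have hwN : w ∈ N := Subgroup.subset_closure ⟨hw, hxw⟩
  have hxN : x ∈ N := by
    have h1 : x * w * x ∈ N := by
      refine Subgroup.subset_closure ⟨hQ.ts.conj_mem hx hw, fun h => ?_⟩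
      exact (hQ.ts.not_commute_third hx hw hxw).1 h.symm
    have h2 := mul_mem (mul_mem hwN h1) hwN
    rwa [hQ.ts.braid hx hw hxw, invol_conj_invol (hQ.sq w hw)] at h2
  have hinv : ∀ d ∈ D, ∀ g ∈ N, d * g * d ∈ N := by
    intro d hd
    by_cases hdN : d ∈ N
    · exact fun g hg => mul_mem (mul_mem hdN hg) hdN
    have hdx : Commute x d := by
      by_contra h
      exact hdN (Subgroup.subset_closure ⟨hd, h⟩)
    intro g hg
    rw [hN] at hg
    induction hg using Subgroup.closure_induction with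
    | mem q hq =>
      refine Subgroup.subset_closure ⟨hQ.ts.conj_mem hd hq.1, fun h => hq.2 ?_⟩
      rw [← invol_conj_eq_of_commute (hQ.sq d hd) hdx.symm] at h
      exact (commute_invol_conj (hQ.sq d hd)).1 h
    | one => rw [mul_one, hQ.sq d hd]; exact one_mem N
    | mul p q _ _ h1 h2 =>
      have := mul_mem h1 h2
      rwa [show d * p * d * (d * q * d) = d * (p * q) * d by
        simp only [mul_assoc, invol_cancel (hQ.sq d hd)]] at this
    | inv p _ h1 =>
      have := inv_mem h1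
      rwa [mul_inv_rev, mul_inv_rev, hQ.ts.inv_eq hd, ← mul_assoc] at this
  have hNn : N.Normal := normal_of_invariant hQ.toTClass hinv
  rw [eq_top_iff, ← hQ.gen, Subgroup.closure_le]
  intro d hd
  obtain ⟨g, rfl⟩ := hQ.trans w hw d hd
  exact hNn.conj_mem w hwN g

end GQ

end Cfsg.Agent.Fischer.Solv
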